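import Cfsg.Agent.Lib.Offender.Group
import Cfsg.Agent.Lib.HallHigman.Solvable

/-!
A normally generating element of prime order at least five acting on a chief factor over the centre.
-/

set_option autoImplicit false
set_option linter.unusedSectionVars false

open scoped commutatorElement

namespace Cfsg.Agent.Lib.FixHalf

open Subgroup Cfsg Cfsg.Agent.Lib.Offender

variable {G : Type*} [Group G] [Finite G] [Group.IsSolvable G]

/-- No element of prime order at least five acts as a transvection on a minimal normal `p`-subgroup. -/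
theorem no_transvection {p : ℕ} [hp : Fact p.Prime] (h5 : 5 ≤ p) (V : Subgroup G) [V.Normal]
    (hV : IsElementaryAbelian p V) (hmin : ∀ M : Subgroup G, M.Normal → M ≤ V → M = ⊥ ∨ M = V)
    {x : G} (hx : x ^ p = 1) (hidx : (fixV V (zpowers x)).relIndex V = p) : False := by
  classical
  have hxV : x ∉ centralizer (V : Set G) := by
    intro h
    have e : fixV V (zpowers x) = V := inf_eq_left.mpr fun v hv => mem_centralizer_iff.mpr fun z hz => by
      obtain ⟨i, rfl⟩ := hz
      exact ((show Commute x v from (mem_centralizer_iff.mp h v hv).symm).zpow_left i).eq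
    rw [e, relIndex_self] at hidx
    exact hp.out.ne_one hidx.symm
  set H₀ := (prj V).range
  have hsolH : Cfsg.IsPSolvable p ↥H₀ := by
    haveI : Group.IsSolvable ↥H₀ := Group.isSolvable_of_surjective (prj V).rangeRestrict_surjective
    exact Lib.HallHigman.isPSolvable_of_isSolvable p
  have hcore : pCore p ↥H₀ = ⊥ := by
    rw [eq_bot_iff]
    intro y hy
    obtain ⟨g, hg⟩ := y.2
    set π := QuotientGroup.mk' (centralizer (V : Set G))
    set D := (pCore p ↥H₀).comap (prj V).rangeRestrict
    haveI : (pCore p ↥H₀).Normal := Cfsg.pCore_normal p _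
    haveI hDn : D.Normal := inferInstance
    have hDp : IsPGroup p (D.map π) := by
      rintro ⟨_, ⟨d, hd, rfl⟩⟩
      obtain ⟨j, hj⟩ := Lib.Hall.isPGroup_pCore p ⟨_, hd⟩
      refine ⟨j, Subtype.ext ?_⟩
      show π d ^ p ^ j = 1
      have h1 : (prj V) (d ^ p ^ j) = 1 := by
        rw [map_pow]
        exact congrArg (fun z : pCore p ↥H₀ => ((z : ↥H₀) : Mdl V)) hj
      rw [← map_pow]
      exact (QuotientGroup.eq_one_iff _).mpr ((prj_eq_one_iff V).mp h1)
    letI : MulAction (D.map π) V := MulAction.compHom V ((act V).comp (D.map π).subtype)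
    obtain ⟨n, hn⟩ := IsPGroup.iff_card.mp (Lib.Thompson.isPGroup_of_elementary hV)
    have hV1 : V ≠ ⊥ := by
      intro h
      exact hxV (mem_centralizer_iff.mpr fun v hv => by
        rw [h] at hv; simp [mem_bot.mp hv])
    have hn0 : n ≠ 0 := by
      rintro rfl
      rw [pow_zero] at hn
      exact hV1 (card_eq_one.mp hn)
    obtain ⟨v, hv, hv1⟩ := hDp.exists_fixed_point_of_prime_dvd_card_of_fixed_point V
      (hn ▸ dvd_pow_self p hn0) (a := (1 : V)) (fun d => map_one ((act V) (d : G ⧸ centralizer (V : Set G))))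
    let F : Subgroup G := V ⊓ centralizer (D : Set G)
    haveI : F.Normal := inferInstance
    have hvF : (v : G) ∈ F := by
      refine ⟨v.2, mem_centralizer_iff.mpr fun d hd => ?_⟩
      have h1 := congrArg Subtype.val (hv ⟨π d, mem_map_of_mem _ hd⟩)
      change d * (v : G) * d⁻¹ = v at h1
      exact mul_inv_eq_iff_eq_mul.mp h1
    rcases hmin F inferInstance inf_le_left with h | h
    · exact absurd (Subtype.ext (mem_bot.mp (h ▸ hvF))) hv1.symm
    · have hgD : g ∈ D := by
        rw [mem_comap, show (prj V).rangeRestrict g = y from Subtype.ext hg]; exact hy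
      rw [mem_bot]
      refine Subtype.ext (hg.symm.trans ((prj_eq_one_iff V).mpr (mem_centralizer_iff.mpr fun w hw => ?_)))
      exact (mem_centralizer_iff.mp (h.ge hw).2 g hgD).symm
  have hfaith : H₀ ⊓ centralizer ((iV V).range : Set (Mdl V)) = ⊥ := by
    rw [eq_bot_iff]
    rintro _ ⟨⟨g, rfl⟩, hc⟩
    refine mem_bot.mpr ((prj_eq_one_iff V).mpr (mem_centralizer_iff.mpr fun v hv => ?_))
    exact ((commute_prj_iff V (v := ⟨v, hv⟩)).mp (mem_centralizer_iff.mp hc _ ⟨_, rfl⟩).symm).symm.eq
  have s := setting_of_pPrimeCore (p := p) (elementary_model V hV) (range_normalized V) hfaith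
    (Lib.HallHigman.centralizer_pPrimeCore_le hsolH hcore)
  have hxa : prj V x ≠ 1 := fun h => hxV ((prj_eq_one_iff V).mp h)
  have t : Trans p (iV V).range H₀ (prj V x) := by
    refine ⟨⟨x, rfl⟩, by rw [← map_pow, hx, map_one], hxa, ?_⟩
    have hz : zpowers (prj V x) = (zpowers x).map (prj V) := (MonoidHom.map_zpowers _ _).symm
    have hc := card_fixV_model V (zpowers x)
    rw [← hz] at hc
    have hV' : Nat.card (iV V).range = Nat.card V :=
      (Nat.card_congr (MonoidHom.ofInjective (SemidirectProduct.inl_injective (φ := act V))).toEquiv).symm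
    have h1 := card_mul_index ((fixV V (zpowers x)).subgroupOf V)
    have h2 := card_mul_index ((fixV (iV V).range (zpowers (prj V x))).subgroupOf (iV V).range)
    rw [Lib.Coprime.card_subgroupOf inf_le_left] at h1 h2
    rw [hc, hV'] at h2
    unfold relIndex at hidx ⊢
    rw [← hidx]
    exact Nat.eq_of_mul_eq_mul_left Nat.card_pos (h2.trans h1.symm)
  rcases t.fac_pcases s with h | h <;> omega

/-- The orbit inequality on `N` modulo `Z`, for a minimal noncentral normal `q`-subgroup `N`. -/
theorem orbit_bound {p q : ℕ} [hp : Fact p.Prime] [hq : Fact q.Prime] (h5 : 5 ≤ p) {x : G} (hx : x ^ p = 1)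
    (hgen : normalClosure ({x} : Set G) = ⊤) (N Z : Subgroup G) [N.Normal] [Z.Normal] (hN : IsPGroup q N)
    (hZN : Z ≤ N) (hZ : ∀ z ∈ Z, ∀ g : G, g * z = z * g)
    (hZc : ∀ n ∈ N, (∀ m ∈ N, n * m = m * n) → n ∈ Z) (hna : ∃ a ∈ N, ∃ b ∈ N, a * b ≠ b * a)
    (hcom : ∀ a ∈ N, ∀ b ∈ N, ⁅a, b⁆ ∈ Z) (hpow : ∀ a ∈ N, a ^ q ∈ Z)
    (hmin : ∀ M : Subgroup G, M.Normal → Z ≤ M → M ≤ N → M = Z ∨ M = N) (hxN : ∃ n ∈ N, x * n * x⁻¹ ≠ n) :
    4 * (Nat.card (N ⧸ Z.subgroupOf N) +
        (p - 1) * Nat.card {c : N ⧸ Z.subgroupOf N // ∃ n : N, (n : N ⧸ Z.subgroupOf N) = c ∧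
          ⁅x, (n : G)⁆ ∈ Z}) ≤ p * Nat.card (N ⧸ Z.subgroupOf N) := by
  classical
  have hNn : N.Normal := inferInstance
  have hcN : ∀ (g : G), ∀ n ∈ N, ⁅g, n⁆ ∈ N := fun g n hn => by
    rw [commutatorElement_def]; exact mul_mem (hNn.conj_mem n hn g) (inv_mem hn)
  set Z₁ := Z.subgroupOf N
  haveI : Z₁.Normal := inferInstance
  have hmul : ∀ (g : G) (a b : N), (⟨⁅g, ((a * b : N) : G)⁆, hcN g _ (a * b).2⟩ : N) =
      ⟨⁅g, (a : G)⁆, hcN g _ a.2⟩ * (a * ⟨⁅g, (b : G)⁆, hcN g _ b.2⟩ * a⁻¹) := fun g a b => Subtype.ext (by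
    simp only [commutatorElement_def, Subgroup.coe_mul, Subgroup.coe_inv]; group)
  have hcq : ∀ u v : N, (u : N ⧸ Z₁) * v = (v : N ⧸ Z₁) * u := fun u v => by
    rw [← QuotientGroup.mk_mul, ← QuotientGroup.mk_mul, QuotientGroup.eq]
    show ((u * v)⁻¹ * (v * u) : N).1 ∈ Z
    have := hcom _ (inv_mem v.2) _ (inv_mem u.2)
    simpa [commutatorElement_def, mul_assoc] using this
  let ψ : N →* N ⧸ Z₁ := MonoidHom.mk' (fun n => QuotientGroup.mk (⟨⁅x, (n : G)⁆, hcN x _ n.2⟩ : N)) (by
    intro a b
    show (QuotientGroup.mk _ : N ⧸ Z₁) = _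
    rw [hmul, QuotientGroup.mk_mul, QuotientGroup.mk_mul, QuotientGroup.mk_mul, hcq a, mul_assoc,
      ← QuotientGroup.mk_mul (Z₁) a, mul_inv_cancel, QuotientGroup.mk_one, mul_one])
  set F := ψ.ker
  have hmemF : ∀ n : N, n ∈ F ↔ ⁅x, (n : G)⁆ ∈ Z := fun n => by
    show (QuotientGroup.mk _ : N ⧸ Z₁) = 1 ↔ _
    rw [QuotientGroup.eq_one_iff, mem_subgroupOf]
  have hZF : Z₁ ≤ F := fun z hz => by
    rw [hmemF, commutatorElement_eq_one_iff_mul_comm.mpr (hZ _ (mem_subgroupOf.mp hz) x)]
    exact one_mem _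
  set Fb := F.map (QuotientGroup.mk' Z₁)
  have hFb : Nat.card {c : N ⧸ Z₁ // ∃ n : N, (n : N ⧸ Z₁) = c ∧ ⁅x, (n : G)⁆ ∈ Z} = Nat.card Fb :=
    Nat.card_congr (Equiv.subtypeEquivRight fun c =>
      ⟨fun ⟨n, hn, h⟩ => ⟨n, (hmemF n).mpr h, hn⟩, fun ⟨n, hn, h⟩ => ⟨n, h, (hmemF n).mp hn⟩⟩)
  have hind : Fb.index = F.index := by
    rw [Subgroup.index_map, QuotientGroup.ker_mk', sup_eq_left.mpr hZF,
      QuotientGroup.range_mk', Subgroup.index_top, mul_one]
  rw [hFb, ← card_mul_index Fb, hind]
  set r := F.index with hrdef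
  set f := Nat.card Fb
  have hr1 : r ≠ 1 := by
    rw [hrdef, Ne, index_eq_one]
    intro hF
    -- then all of `G` centralizes `N` modulo `Z`
    let K : Subgroup G :=
      { carrier := {g | ∀ n ∈ N, ⁅g, n⁆ ∈ Z}
        one_mem' := fun n _ => by simp
        mul_mem' := by
          intro a b ha hb n hn
          rw [show ⁅a * b, n⁆ = a * ⁅b, n⁆ * a⁻¹ * ⁅a, n⁆ by simp only [commutatorElement_def]; group]
          exact mul_mem (Normal.conj_mem inferInstance _ (hb n hn) a) (ha n hn)
        inv_mem' := by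
          intro a ha n hn
          rw [show ⁅a⁻¹, n⁆ = a⁻¹ * ⁅a, n⁆⁻¹ * a⁻¹⁻¹ by simp only [commutatorElement_def]; group]
          exact Normal.conj_mem inferInstance _ (inv_mem (ha n hn)) a⁻¹ }
    have hK : K.Normal := ⟨fun g hg z n hn => by
      rw [show ⁅z * g * z⁻¹, n⁆ = z * ⁅g, z⁻¹ * n * z⁻¹⁻¹⁆ * z⁻¹ by simp only [commutatorElement_def]; group]
      exact Normal.conj_mem inferInstance _ (hg _ (hNn.conj_mem n hn z⁻¹)) z⟩
    have hxK : x ∈ K := fun n hn => (hmemF ⟨n, hn⟩).mp (hF ▸ mem_top _)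
    have hall : ∀ g, g ∈ K := fun g =>
      (normalClosure_le_normal (Set.singleton_subset_iff.mpr hxK)) (hgen ▸ mem_top g)
    obtain ⟨a, ha, b, hb, hab⟩ := hna
    have haZ : a ∉ Z := fun h => hab (hZ a h b).symm
    have hMn : (Z ⊔ zpowers a).Normal := by
      refine ⟨fun m hm g => ?_⟩
      have hmN : m ∈ N := (sup_le hZN (zpowers_le.mpr ha)) hm
      rw [show g * m * g⁻¹ = ⁅g, m⁆ * m by simp only [commutatorElement_def]; group]
      exact mul_mem (mem_sup_left (hall g m hmN)) hm
    rcases hmin _ hMn le_sup_left (sup_le hZN (zpowers_le.mpr ha)) with h | h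
    · exact haZ (h.le (mem_sup_right (mem_zpowers a)))
    · have hle : Z ⊔ zpowers a ≤ centralizer ({a} : Set G) := sup_le
        (fun z hz => mem_centralizer_singleton_iff.mpr (hZ z hz a).symm)
        (zpowers_le.mpr (mem_centralizer_singleton_iff.mpr rfl))
      exact hab (mem_centralizer_singleton_iff.mp (hle (h.ge hb))).symm
  have hr0 : r ≠ 0 := index_ne_zero_of_finite
  obtain ⟨a₀, hr⟩ := hN.index F
  rw [← hrdef] at hr
  -- the action of `x` on `N / Z`
  have hxcomm : ∀ n : G, x * n * x⁻¹ = ⁅x, n⁆ * n := fun n => by simp only [commutatorElement_def]; group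
  have hrp : q ≠ p → r ≡ 1 [MOD p] ∧ r ≠ q := by
    intro hqp
    have hYp : IsPGroup p (zpowers x) := by
      refine fun z => ⟨1, ?_⟩
      obtain ⟨_, i, rfl⟩ := z
      refine Subtype.ext ?_
      show (x ^ i) ^ p ^ 1 = 1
      rw [pow_one, ← zpow_natCast, ← zpow_mul, mul_comm, zpow_mul, zpow_natCast, hx, one_zpow]
    letI : MulAction (zpowers x) (N ⧸ Z₁) :=
      { smul := fun g => Quotient.map' (fun n : N => (⟨(g : G) * n * (g : G)⁻¹, hNn.conj_mem n n.2 g⟩ : N))
          fun a b h => by
            rw [QuotientGroup.leftRel_apply] at h ⊢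
            rw [mem_subgroupOf] at h ⊢
            show ((g : G) * a * (g : G)⁻¹)⁻¹ * ((g : G) * b * (g : G)⁻¹) ∈ Z
            rw [show ((g : G) * a * (g : G)⁻¹)⁻¹ * ((g : G) * b * (g : G)⁻¹) =
              (g : G) * ((a : G)⁻¹ * b) * (g : G)⁻¹ by group]
            exact Normal.conj_mem inferInstance _ h _
        one_smul := fun c => by
          induction c using Quotient.inductionOn' with
          | h n => exact congrArg (QuotientGroup.mk (s := Z₁)) (Subtype.ext (by simp))
        mul_smul := fun g h c => by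
          induction c using Quotient.inductionOn' with
          | h n => exact congrArg (QuotientGroup.mk (s := Z₁)) (Subtype.ext (by simp [mul_assoc])) }
    have hfp : Nat.card (MulAction.fixedPoints (zpowers x) (N ⧸ Z₁)) = f := by
      refine Nat.card_congr (Equiv.subtypeEquivRight fun c => ?_)
      obtain ⟨n, rfl⟩ := QuotientGroup.mk_surjective c
      have hiff : (⟨x, mem_zpowers x⟩ : zpowers x) • (QuotientGroup.mk n : N ⧸ Z₁) = QuotientGroup.mk n ↔ n ∈ F := by
        show (QuotientGroup.mk (⟨x * n * x⁻¹, _⟩ : N) : N ⧸ Z₁) = QuotientGroup.mk n ↔ _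
        rw [eq_comm, QuotientGroup.eq, mem_subgroupOf, hmemF]
        show (n : G)⁻¹ * (x * n * x⁻¹) ∈ Z ↔ _
        rw [hxcomm]
        constructor
        · intro h
          have := Normal.conj_mem (inferInstance : Z.Normal) _ h (n : G)
          simpa [mul_assoc] using this
        · intro h
          have := Normal.conj_mem (inferInstance : Z.Normal) _ h (n : G)⁻¹
          simpa [mul_assoc] using this
      have hFb' : (QuotientGroup.mk n : N ⧸ Z₁) ∈ Fb ↔ n ∈ F := by
        have h2 := Subgroup.comap_map_eq (QuotientGroup.mk' Z₁) F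
        rw [QuotientGroup.ker_mk', sup_eq_left.mpr hZF] at h2
        exact (mem_comap (f := QuotientGroup.mk' Z₁)).symm.trans (by rw [h2])
      rw [hFb', ← hiff]
      refine ⟨fun h => h ⟨x, mem_zpowers x⟩, fun h => ?_⟩
      intro g
      obtain ⟨g, i, rfl⟩ := g
      have := MulAction.mem_stabilizer_iff.mp (zpow_mem (MulAction.mem_stabilizer_iff.mpr h) i)
      rwa [show (⟨x, mem_zpowers x⟩ : zpowers x) ^ i = ⟨x ^ i, i, rfl⟩ from Subtype.ext (by simp)] at this
    have hmod := hYp.card_modEq_card_fixedPoints (α := N ⧸ Z₁)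
    rw [hfp, ← card_mul_index Fb, hind] at hmod
    have hpf : ¬ p ∣ f := by
      intro h
      obtain ⟨b, hb⟩ := IsPGroup.iff_card.mp ((hN.to_quotient Z₁).to_subgroup Fb)
      rw [show f = q ^ b from hb] at h
      exact hqp ((Nat.prime_dvd_prime_iff_eq hp.out hq.out).mp (hp.out.dvd_of_dvd_pow h)).symm
    refine ⟨Nat.ModEq.cancel_left_of_coprime (hp.out.coprime_iff_not_dvd.mpr hpf) (by rwa [mul_one]), fun hrq => ?_⟩
    -- `r = q`: a line complementary to the fixed points
    obtain ⟨v, hv⟩ : ∃ v : N, v ∉ F := by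
      by_contra h; push Not at h
      exact hr1 (index_eq_one.mpr ((eq_top_iff' F).mpr h))
    set u : N := ⟨⁅x, (v : G)⁆, hcN x _ v.2⟩
    have huZ : (u : G) ∉ Z := fun h => hv ((hmemF v).mpr h)
    -- `u` is not fixed
    have hu : u ∉ F := by
      intro huF
      have hc : ∀ j : ℕ, (QuotientGroup.mk (⟨x ^ j * v * (x ^ j)⁻¹, hNn.conj_mem _ v.2 _⟩ : N) : N ⧸ Z₁) =
          (u : N ⧸ Z₁) ^ j * (v : N ⧸ Z₁) := by
        intro j
        induction j with
        | zero =>
          refine (congrArg (QuotientGroup.mk (s := Z₁)) (Subtype.ext (by simp) : _ = v)).trans ?_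
          rw [pow_zero, one_mul]
        | succ j ih =>
          have hstep : (QuotientGroup.mk (⟨x ^ (j + 1) * v * (x ^ (j + 1))⁻¹, hNn.conj_mem _ v.2 _⟩ : N) : N ⧸ Z₁) =
              ψ ⟨x ^ j * v * (x ^ j)⁻¹, hNn.conj_mem _ v.2 _⟩ *
                QuotientGroup.mk (⟨x ^ j * v * (x ^ j)⁻¹, hNn.conj_mem _ v.2 _⟩ : N) := by
            show _ = QuotientGroup.mk _ * _
            rw [← QuotientGroup.mk_mul]
            exact congrArg (QuotientGroup.mk (s := Z₁)) (Subtype.ext (by
              simp only [Subgroup.coe_mul, commutatorElement_def, pow_succ']; group))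
          have hψ : ∀ n m : N, (n : N ⧸ Z₁) = m → ψ n = ψ m := by
            intro n m h
            rw [QuotientGroup.eq] at h
            have h1 : ψ (n⁻¹ * m) = 1 := hZF h
            rwa [map_mul, map_inv, inv_mul_eq_one] at h1
          have hψu : ψ u = 1 := huF
          rw [hstep, ih, hψ _ (u ^ j * v) (by rw [ih, QuotientGroup.mk_mul, QuotientGroup.mk_pow]),
            map_mul, map_pow, hψu, one_pow, one_mul, show ψ v = (u : N ⧸ Z₁) from rfl, ← mul_assoc, ← pow_succ']
      have hp1 := hc p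
      have hxv : (⟨x ^ p * v * (x ^ p)⁻¹, hNn.conj_mem _ v.2 _⟩ : N) = v := Subtype.ext (by simp [hx])
      rw [hxv, eq_comm, mul_eq_right, ← QuotientGroup.mk_pow, QuotientGroup.eq_one_iff, mem_subgroupOf] at hp1
      apply huZ
      have hcop : (orderOf (u : N ⧸ Z₁)).Coprime p := by
        obtain ⟨b, hb⟩ := hN.to_quotient Z₁ (u : N ⧸ Z₁)
        exact ((Nat.coprime_primes hq.out hp.out).mpr hqp).pow_left b |>.coprime_dvd_left
          (orderOf_dvd_of_pow_eq_one hb)
      have h1 : (u : N ⧸ Z₁) ^ p = 1 := by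
        rw [← QuotientGroup.mk_pow, QuotientGroup.eq_one_iff, mem_subgroupOf]; exact hp1
      have h2 : orderOf (u : N ⧸ Z₁) = 1 := Nat.eq_one_of_dvd_coprimes hcop dvd_rfl (orderOf_dvd_of_pow_eq_one h1)
      rw [orderOf_eq_one_iff, QuotientGroup.eq_one_iff, mem_subgroupOf] at h2
      exact h2
    -- `u` commutes with `F`
    have hperp : ∀ c ∈ F, ⁅(c : G), (u : G)⁆ = 1 := by
      intro c hc
      set z := ⁅x, (c : G)⁆ with hz
      have hzZ : z ∈ Z := (hmemF c).mp hc
      have h1 : x * ⁅(c : G), (v : G)⁆ * x⁻¹ = ⁅(c : G), (v : G)⁆ := by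
        rw [hZ _ (hcom c c.2 v v.2) x, mul_inv_cancel_right]
      rw [show x * ⁅(c : G), (v : G)⁆ * x⁻¹ = ⁅x * c * x⁻¹, x * v * x⁻¹⁆ by
        simp only [commutatorElement_def]; group, hxcomm, hxcomm, ← hz] at h1
      have hleft : ∀ y : G, ⁅z * (c : G), y⁆ = ⁅(c : G), y⁆ := fun y => by
        simp only [commutatorElement_def, mul_inv_rev]
        have hzy : ∀ w : G, z * w = w * z := fun w => (hZ z hzZ w).symm
        calc z * c * y * ((c : G)⁻¹ * z⁻¹) * y⁻¹ = z * ((c : G) * y * (c : G)⁻¹) * z⁻¹ * y⁻¹ := by group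
          _ = _ := by rw [hzy, mul_inv_cancel_right]
      rw [hleft, show ⁅(c : G), ⁅x, (v : G)⁆ * v⁆ = ⁅(c : G), (u : G)⁆ * ((u : G) * ⁅(c : G), (v : G)⁆ * (u : G)⁻¹) by
        simp only [u, commutatorElement_def]; group, hZ _ (hcom c c.2 v v.2) (u : G), mul_inv_cancel_right,
        mul_eq_right] at h1
      exact h1
    -- hence `u` is central in `N`
    have hFu : F ⊔ zpowers u = ⊤ := by
      rw [← index_eq_one]
      have hd : (F ⊔ zpowers u).index ∣ r := index_dvd_of_le le_sup_left
      rw [hrq] at hd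
      refine ((Nat.dvd_prime hq.out).mp hd).resolve_right fun h => hu ?_
      have he : F = F ⊔ zpowers u := by
        refine eq_of_le_of_card_ge le_sup_left ?_
        have h1 := card_mul_index F
        have h2 := card_mul_index (F ⊔ zpowers u)
        rw [← hrdef, hrq] at h1
        rw [h] at h2
        exact le_of_eq (Nat.eq_of_mul_eq_mul_right hq.out.pos (h2.trans h1.symm))
      exact he.ge (mem_sup_right (mem_zpowers u))
    apply huZ
    refine hZc _ u.2 fun m hm => ?_
    have hle : F ⊔ zpowers u ≤ centralizer ({u} : Set N) := sup_le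
      (fun c hc => mem_centralizer_singleton_iff.mpr (Subtype.ext (commutatorElement_eq_one_iff_mul_comm.mp (hperp c hc))))
      (zpowers_le.mpr (mem_centralizer_singleton_iff.mpr rfl))
    exact (congrArg Subtype.val (mem_centralizer_singleton_iff.mp (hle (hFu ▸ mem_top (⟨m, hm⟩ : N))))).symm
  -- the arithmetic
  have hnum : 4 * (p - 1) ≤ (p - 4) * r := by
    obtain ⟨t, rfl⟩ : ∃ t, p = t + 5 := ⟨p - 5, by omega⟩
    simp only [show t + 5 - 1 = t + 4 by omega, show t + 5 - 4 = t + 1 by omega]
    have ha0 : a₀ ≠ 0 := fun h => hr1 (by rw [hr, h, pow_zero])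
    by_cases hqp : q = t + 5
    · -- a transvection is impossible
      have ha1 : a₀ ≠ 1 := by
        intro ha1
        subst hqp
        haveI : (N.map (QuotientGroup.mk' Z)).Normal := hNn.map _ (QuotientGroup.mk'_surjective _)
        set Vb := N.map (QuotientGroup.mk' Z)
        have hVb : IsElementaryAbelian (t + 5) Vb := by
          refine ⟨⟨⟨?_⟩⟩, ?_⟩
          · rintro ⟨_, a, ha, rfl⟩ ⟨_, b, hb, rfl⟩
            refine Subtype.ext (?_ : QuotientGroup.mk' Z a * QuotientGroup.mk' Z b = _ * _)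
            rw [← map_mul, ← map_mul]
            refine QuotientGroup.eq.mpr ?_
            have := hcom _ (inv_mem hb) _ (inv_mem ha)
            simpa [commutatorElement_def, mul_assoc] using this
          · rintro _ ⟨a, ha, rfl⟩
            rw [← map_pow]
            exact (QuotientGroup.eq_one_iff _).mpr (hpow a ha)
        refine no_transvection h5 Vb hVb ?_ (x := QuotientGroup.mk' Z x) (by rw [← map_pow, hx, map_one]) ?_
        · intro M hM hMV
          have hle : M.comap (QuotientGroup.mk' Z) ≤ N := by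
            refine (Subgroup.comap_mono hMV).trans (le_of_eq ?_)
            rw [Subgroup.comap_map_eq, QuotientGroup.ker_mk', sup_eq_left.mpr hZN]
          rcases hmin _ (hM.comap _) (QuotientGroup.le_comap_mk' Z M) hle with h | h
          · left
            rw [← map_comap_eq_self_of_surjective (QuotientGroup.mk'_surjective Z) M, h, QuotientGroup.map_mk'_self]
          · right
            rw [← map_comap_eq_self_of_surjective (QuotientGroup.mk'_surjective Z) M, h]
        · set Fx := fixV Vb (zpowers (QuotientGroup.mk' Z x))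
          have hc : Fx.comap (QuotientGroup.mk' Z) = F.map N.subtype := by
            ext g
            rw [mem_comap, mem_fix_zpowers]
            constructor
            · rintro ⟨hgV, hgc⟩
              have hgN : g ∈ N := by
                have : g ∈ Vb.comap (QuotientGroup.mk' Z) := hgV
                rwa [Subgroup.comap_map_eq, QuotientGroup.ker_mk', sup_eq_left.mpr hZN] at this
              refine ⟨⟨g, hgN⟩, (hmemF _).mpr ((QuotientGroup.eq_one_iff _).mp ?_), rfl⟩
              show QuotientGroup.mk' Z ⁅x, g⁆ = 1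
              rw [map_commutatorElement]
              exact commutatorElement_eq_one_iff_commute.mpr hgc
            · rintro ⟨n, hn, rfl⟩
              refine ⟨mem_map_of_mem _ n.2, commutatorElement_eq_one_iff_commute.mp ?_⟩
              rw [← map_commutatorElement]
              exact (QuotientGroup.eq_one_iff _).mpr ((hmemF n).mp hn)
          rw [← relIndex_comap Fx (QuotientGroup.mk' Z) N, hc, relIndex, subgroupOf,
            comap_map_eq_self_of_injective N.subtype_injective, ← hrdef, hr, ha1, pow_one]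
      have hge : (t + 5) * (t + 5) ≤ r := by
        rw [hr, hqp, ← sq]; exact Nat.pow_le_pow_right (by omega) (by omega)
      nlinarith
    · obtain ⟨hmod, hne⟩ := hrp hqp
      obtain ⟨c, hc⟩ := (Nat.modEq_iff_dvd' (Nat.one_le_iff_ne_zero.mpr hr0)).mp hmod.symm
      have hc1 : c ≠ 0 := by rintro rfl; omega
      rcases Nat.eq_zero_or_pos t with rfl | ht
      · -- `r = 6, 11` are excluded
        by_contra hlt
        have hc3 : c ≤ 2 := by omega
        interval_cases c
        · exact hc1 rfl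
        · have h6 : r = 6 := by omega
          have h2 : (2 : ℕ) ∣ q ^ a₀ := ⟨3, by omega⟩
          have h3 : (3 : ℕ) ∣ q ^ a₀ := ⟨2, by omega⟩
          have := (Nat.prime_dvd_prime_iff_eq Nat.prime_two hq.out).mp (Nat.prime_two.dvd_of_dvd_pow h2)
          have := (Nat.prime_dvd_prime_iff_eq Nat.prime_three hq.out).mp (Nat.prime_three.dvd_of_dvd_pow h3)
          omega
        · have h11 : r = 11 := by omega
          have hq11 : q = 11 := ((Nat.prime_dvd_prime_iff_eq hq.out (by norm_num)).mp
            (h11 ▸ hr ▸ dvd_pow_self q ha0))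
          exact hne (by omega)
      · have hge : t + 6 ≤ r := by
          have : t + 5 ≤ (t + 5) * c := Nat.le_mul_of_pos_right _ (Nat.pos_of_ne_zero hc1)
          omega
        rcases Nat.lt_or_ge t 2 with h | h
        · obtain rfl : t = 1 := by omega
          exfalso; have := hp.out; norm_num at this
        · nlinarith
  calc 4 * (f * r + (p - 1) * f) = 4 * f * r + (4 * (p - 1)) * f := by ring
    _ ≤ 4 * f * r + ((p - 4) * r) * f := Nat.add_le_add_left (Nat.mul_le_mul_right f hnum) _
    _ = (4 + (p - 4)) * (f * r) := by ring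
    _ = p * (f * r) := by rw [Nat.add_sub_cancel' (by omega : 4 ≤ p)]

end Cfsg.Agent.Lib.FixHalf
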