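import Cfsg.Agent.Lib.FixHalf.Abelian
import Cfsg.Agent.Lib.FixHalf.Count

/-!
Fixed space of a normally generating element of prime order at least five, in the presence of a normal
subgroup of class two: count orbits on the grading of the endomorphism algebra.
-/

set_option autoImplicit false
set_option linter.unusedSectionVars false

open scoped commutatorElement

namespace Cfsg.Agent.Lib.FixHalf

open Subgroup

variable {E V G : Type*} [Field E] [AddCommGroup V] [Module E V] [FiniteDimensional E V] [Group G] [Finite G]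

/-- The orbit count bounds the fixed space by less than a half. -/
theorem two_mul_lt_of_classTwo (ρ : G →* Module.End E V) (hinj : Function.Injective ρ) (N Z : Subgroup G)
    [hN : N.Normal] [hZn : Z.Normal] (hZN : Z ≤ N) (hZ : ∀ z ∈ Z, ∀ g : G, g * z = z * g)
    (hscal : ∀ z ∈ Z, ∃ c : E, ρ z = c • (1 : Module.End E V))
    (hZc : ∀ n ∈ N, (∀ m ∈ N, n * m = m * n) → n ∈ Z) (hcom : ∀ a ∈ N, ∀ b ∈ N, ⁅a, b⁆ ∈ Z)
    (hcard : (Nat.card N : E) ≠ 0) {p : ℕ} [hp : Fact p.Prime] {x : G} (hx : x ^ p = 1) (hx1 : x ≠ 1)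
    (hbound : 4 * (Nat.card (N ⧸ Z.subgroupOf N) +
        (p - 1) * Nat.card {c : N ⧸ Z.subgroupOf N // ∃ n : N, (n : N ⧸ Z.subgroupOf N) = c ∧
          ⁅x, (n : G)⁆ ∈ Z}) ≤ p * Nat.card (N ⧸ Z.subgroupOf N)) :
    2 * Module.finrank E (LinearMap.ker (ρ x - 1)) < Module.finrank E V := by
  classical
  haveI := Fintype.ofFinite N
  set Z₁ := Z.subgroupOf N
  set Rq := N ⧸ Z₁
  haveI := Fintype.ofFinite Rq
  have hNc : (Fintype.card N : E) ≠ 0 := by rwa [← Nat.card_eq_fintype_card]
  -- commutators of coset representatives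
  have hcl : ∀ (g : G) (z : G), z ∈ Z → ∀ y : G, ⁅z * g, y⁆ = ⁅g, y⁆ := fun g z hz y => by
    calc ⁅z * g, y⁆ = z * (g * y * g⁻¹) * z⁻¹ * y⁻¹ := by simp only [commutatorElement_def]; group
      _ = ⁅g, y⁆ := by
        rw [← hZ z hz (g * y * g⁻¹), mul_inv_cancel_right]; simp only [commutatorElement_def]
  have hlin : ∀ a ∈ N, ∀ b ∈ N, ∀ y ∈ N, ⁅a * b, y⁆ = ⁅a, y⁆ * ⁅b, y⁆ := by
    intro a ha b hb y hy
    calc ⁅a * b, y⁆ = a * ⁅b, y⁆ * a⁻¹ * ⁅a, y⁆ := by simp only [commutatorElement_def]; group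
      _ = ⁅a, y⁆ * ⁅b, y⁆ := by
          rw [hZ _ (hcom b hb y hy) a, mul_inv_cancel_right, hZ _ (hcom b hb y hy) ⁅a, y⁆]
  have hcoset : ∀ v v' : N, (v : Rq) = v' → ∀ y : G, ⁅(v : G), y⁆ = ⁅(v' : G), y⁆ := by
    intro v v' h y
    rw [QuotientGroup.eq, mem_subgroupOf] at h
    rw [Subgroup.coe_mul, Subgroup.coe_inv] at h
    have e : (v' : G) = ((v : G)⁻¹ * v') * v := by
      rw [← hZ _ h (v : G), mul_inv_cancel_left]
    rw [e]
    exact (hcl _ _ h y).symm
  have hZcomm : ∀ z ∈ Z, ∀ f : Module.End E V, ρ z * f = f * ρ z := by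
    intro z hz f
    obtain ⟨c, hc⟩ := hscal z hz
    rw [hc, smul_mul_assoc, one_mul, mul_smul_comm, mul_one]
  -- orthogonality
  have horth : ∀ v : N, (v : G) ∉ Z → ∑ n : N, ρ ⁅(v : G), (n : G)⁆ = 0 := by
    intro v hv
    obtain ⟨m, hm⟩ : ∃ m : N, ⁅(v : G), (m : G)⁆ ≠ 1 := by
      by_contra h
      push Not at h
      exact hv (hZc v v.2 fun m hm => commutatorElement_eq_one_iff_mul_comm.mp (h ⟨m, hm⟩))
    set S := ∑ n : N, ρ ⁅(v : G), (n : G)⁆
    have hS : ρ ⁅(v : G), (m : G)⁆ * S = S := by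
      rw [Finset.mul_sum]
      refine Fintype.sum_equiv (Equiv.mulLeft m) _ _ fun n => ?_
      rw [← map_mul]
      congr 1
      show _ = ⁅(v : G), (m : G) * (n : G)⁆
      rw [show ⁅(v : G), (m : G) * (n : G)⁆ = ⁅(v : G), (m : G)⁆ * ((m : G) * ⁅(v : G), (n : G)⁆ * (m : G)⁻¹) by
        simp only [commutatorElement_def]; group, hZ _ (hcom v v.2 n n.2) (m : G), mul_inv_cancel_right]
    obtain ⟨c, hc⟩ := hscal _ (hcom v v.2 m m.2)
    rw [hc, smul_mul_assoc, one_mul] at hS
    have hc1 : c - 1 ≠ 0 := by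
      intro h
      rw [sub_eq_zero] at h
      rw [h, one_smul, ← map_one ρ] at hc
      exact hm (hinj hc)
    have h0 : (c - 1) • S = 0 := by rw [sub_smul, hS, one_smul, sub_self]
    exact (smul_eq_zero.mp h0).resolve_left hc1
  -- the projections
  let κ : N → Module.End E V →ₗ[E] Module.End E V := fun n =>
    (LinearMap.mulLeft E (ρ (n : G))).comp (LinearMap.mulRight E (ρ (n : G)⁻¹))
  let P : N → Module.End E V →ₗ[E] Module.End E V := fun v =>
    ((Fintype.card N : E))⁻¹ • ∑ n : N, (LinearMap.mulLeft E (ρ ⁅(v : G), (n : G)⁆)).comp (κ n)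
  have hPapply : ∀ v f, P v f = ((Fintype.card N : E))⁻¹ •
      ∑ n : N, ρ ⁅(v : G), (n : G)⁆ * (ρ (n : G) * (f * ρ (n : G)⁻¹)) := fun v f => by
    simp [P, κ, LinearMap.sum_apply]
  let rep : Rq → N := fun c => c.out
  have hrep : ∀ c : Rq, (rep c : Rq) = c := fun c => c.out_eq'
  have hPdep : ∀ v : N, P v = P (rep v) := fun v => LinearMap.ext fun f => by
    rw [hPapply, hPapply]
    simp only [hcoset v (rep v) (hrep v).symm]
  let C : Submodule E (Module.End E V) :=
    ⨅ n : N, LinearMap.ker (LinearMap.mulLeft E (ρ (n : G)) - LinearMap.mulRight E (ρ (n : G)))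
  have hC : ∀ f, f ∈ C ↔ ∀ n : N, ρ (n : G) * f = f * ρ (n : G) := fun f => by
    simp [C, Submodule.mem_iInf, sub_eq_zero]
  -- the range of a projection
  have hrange : ∀ v : N, ∀ g ∈ LinearMap.range (P v), ρ (v : G)⁻¹ * g ∈ C := by
    rintro v _ ⟨f, rfl⟩
    rw [hC]
    intro m
    rw [hPapply, mul_smul_comm, mul_smul_comm, smul_mul_assoc, Finset.mul_sum, Finset.mul_sum, Finset.sum_mul]
    congr 1
    refine Fintype.sum_equiv (Equiv.mulLeft m) _ _ fun n => ?_
    show ρ (m : G) * (ρ (v : G)⁻¹ * (ρ ⁅(v : G), (n : G)⁆ * (ρ (n : G) * (f * ρ (n : G)⁻¹)))) =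
      ρ (v : G)⁻¹ * (ρ ⁅(v : G), (m : G) * (n : G)⁆ * (ρ ((m : G) * n) * (f * ρ ((m : G) * (n : G))⁻¹))) * ρ (m : G)
    have e1 : ⁅(v : G), (m : G) * (n : G)⁆ = ⁅(v : G), (m : G)⁆ * ⁅(v : G), (n : G)⁆ := by
      rw [show ⁅(v : G), (m : G) * (n : G)⁆ = ⁅(v : G), (m : G)⁆ * ((m : G) * ⁅(v : G), (n : G)⁆ * (m : G)⁻¹) by
        simp only [commutatorElement_def]; group, hZ _ (hcom v v.2 n n.2) (m : G), mul_inv_cancel_right]
    have e2 : (v : G)⁻¹ * (⁅(v : G), (m : G)⁆ * ⁅(v : G), (n : G)⁆ * ((m : G) * n)) =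
        (m : G) * ((v : G)⁻¹ * (⁅(v : G), (n : G)⁆ * n)) := by
      rw [hZ _ (hcom v v.2 n n.2) ⁅(v : G), (m : G)⁆]
      calc (v : G)⁻¹ * (⁅(v : G), (n : G)⁆ * ⁅(v : G), (m : G)⁆ * ((m : G) * n))
          = (v : G)⁻¹ * ⁅(v : G), (n : G)⁆ * (v : G) * ((m : G) * (v : G)⁻¹ * n) := by
            simp only [commutatorElement_def]; group
        _ = ⁅(v : G), (n : G)⁆ * ((m : G) * (v : G)⁻¹ * n) := by
            rw [hZ _ (hcom v v.2 n n.2) (v : G)⁻¹, inv_mul_cancel_right]
        _ = _ := by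
            rw [← mul_assoc (v : G)⁻¹, hZ _ (hcom v v.2 n n.2) (v : G)⁻¹, ← mul_assoc, ← mul_assoc,
              ← hZ _ (hcom v v.2 n n.2) (m : G)]
            simp only [mul_assoc]
    have e3 : ρ ((m : G) * (n : G))⁻¹ * ρ (m : G) = ρ (n : G)⁻¹ := by
      rw [← map_mul, mul_inv_rev, inv_mul_cancel_right]
    calc ρ (m : G) * (ρ (v : G)⁻¹ * (ρ ⁅(v : G), (n : G)⁆ * (ρ (n : G) * (f * ρ (n : G)⁻¹))))
        = ρ ((m : G) * ((v : G)⁻¹ * (⁅(v : G), (n : G)⁆ * n))) * f * ρ (n : G)⁻¹ := by
          simp only [map_mul, mul_assoc]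
      _ = ρ ((v : G)⁻¹ * (⁅(v : G), (m : G) * (n : G)⁆ * ((m : G) * n))) * f *
            (ρ ((m : G) * (n : G))⁻¹ * ρ (m : G)) := by rw [e1, e2, e3]
      _ = _ := by simp only [map_mul, mul_assoc]
  set d := Module.finrank E C
  have hd : ∀ c : Rq, Module.finrank E (LinearMap.range (P (rep c))) ≤ d := by
    intro c
    set v := rep c
    let φ : LinearMap.range (P v) →ₗ[E] C :=
      LinearMap.codRestrict C ((LinearMap.mulLeft E (ρ (v : G)⁻¹)).comp (Submodule.subtype _))
        fun g => hrange v g g.2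
    refine LinearMap.finrank_le_finrank_of_injective (f := φ) fun a b h => Subtype.ext ?_
    have h1 : ρ (v : G)⁻¹ * (a : Module.End E V) = ρ (v : G)⁻¹ * b := congrArg Subtype.val h
    have h2 := congrArg (fun z => ρ (v : G) * z) h1
    simpa [← mul_assoc, rho_mul_inv] using h2
  have hswap : ∀ f, ∑ c : Rq, P (rep c) f = f := by
    intro f
    simp only [hPapply]
    rw [← Finset.smul_sum, Finset.sum_comm]
    simp only [← Finset.sum_mul]
    have hkey : ∀ n : N, ∑ c : Rq, ρ ⁅(rep c : G), (n : G)⁆ =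
        if (n : G) ∈ Z then (Fintype.card Rq : E) • (1 : Module.End E V) else 0 := by
      intro n
      split
      · next hn =>
        rw [Finset.sum_congr rfl fun c _ => by
          rw [commutatorElement_eq_one_iff_mul_comm.mpr (hZ _ hn (rep c : G)), map_one]]
        rw [Finset.sum_const, Finset.card_univ, Nat.cast_smul_eq_nsmul]
      · next hn =>
        -- the sum over `N` is `|Z|` times the sum over cosets
        obtain ⟨m, hm⟩ : ∃ m : N, ⁅(m : G), (n : G)⁆ ≠ 1 := by
          by_contra h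
          push Not at h
          exact hn (hZc n n.2 fun m hm => (commutatorElement_eq_one_iff_mul_comm.mp (h ⟨m, hm⟩)).symm)
        set S := ∑ c : Rq, ρ ⁅(rep c : G), (n : G)⁆
        have hS : ρ ⁅(m : G), (n : G)⁆ * S = S := by
          rw [Finset.mul_sum]
          refine Fintype.sum_equiv (Equiv.mulLeft (m : Rq)) _ _ fun c => ?_
          rw [← map_mul]
          congr 1
          rw [← hlin m m.2 _ (rep c).2 n n.2]
          refine hcoset (m * rep c) (rep ((m : Rq) * c)) ?_ n
          rw [QuotientGroup.mk_mul, hrep, hrep]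
        obtain ⟨c, hc⟩ := hscal _ (hcom m m.2 n n.2)
        rw [hc, smul_mul_assoc, one_mul] at hS
        have hc1 : c - 1 ≠ 0 := by
          intro h
          rw [sub_eq_zero] at h
          rw [h, one_smul, ← map_one ρ] at hc
          exact hm (hinj hc)
        have h0 : (c - 1) • S = 0 := by rw [sub_smul, hS, one_smul, sub_self]
        exact (smul_eq_zero.mp h0).resolve_left hc1
    simp only [hkey]
    rw [Finset.sum_congr rfl (g := fun n : N => if (n : G) ∈ Z then (Fintype.card Rq : E) • f else 0) fun n _ => ?_]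
    swap
    · split
      · next hn =>
        rw [smul_mul_assoc, one_mul, ← mul_assoc, hZcomm _ hn, mul_assoc, rho_mul_inv, mul_one]
      · rw [zero_mul]
    rw [← Finset.sum_filter, Finset.sum_const, ← Nat.cast_smul_eq_nsmul E, smul_smul, smul_smul]
    have hcount : (Finset.univ.filter fun n : N => (n : G) ∈ Z).card = Fintype.card Z₁ := by
      rw [Fintype.card_subtype]; rfl
    have hmul : Fintype.card Z₁ * Fintype.card Rq = Fintype.card N := by
      rw [← Nat.card_eq_fintype_card, ← Nat.card_eq_fintype_card (α := Rq), ← Nat.card_eq_fintype_card,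
        ← index_eq_card]
      exact card_mul_index Z₁
    rw [hcount, mul_assoc, ← Nat.cast_mul, hmul, inv_mul_cancel₀ hNc, one_smul]
  -- `|N/Z| dim C ≤ D²`
  have hlow : Fintype.card Rq * d ≤ Module.finrank E V * Module.finrank E V := by
    let Φ : (Rq → C) →ₗ[E] Module.End E V :=
      ∑ c : Rq, (LinearMap.mulLeft E (ρ (rep c : G))).comp (C.subtype.comp (LinearMap.proj c))
    have hΦ : Function.Injective Φ := by
      rw [injective_iff_map_eq_zero]
      intro u hu
      funext c₀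
      apply Subtype.ext
      have h1 := congrArg (P (rep c₀)) hu
      simp only [Φ, LinearMap.sum_apply, LinearMap.comp_apply, LinearMap.proj_apply, Submodule.subtype_apply,
        LinearMap.mulLeft_apply, map_sum, map_zero] at h1
      have hterm : ∀ c : Rq, P (rep c₀) (ρ (rep c : G) * (u c : Module.End E V)) =
          if c = c₀ then ρ (rep c : G) * (u c : Module.End E V) else 0 := by
        intro c
        rw [hPapply]
        have hn : ∀ n : N, ρ ⁅(rep c₀ : G), (n : G)⁆ *
            (ρ (n : G) * (ρ (rep c : G) * (u c : Module.End E V) * ρ (n : G)⁻¹)) =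
            ρ ⁅(rep c₀ : G) * (rep c : G)⁻¹, (n : G)⁆ * (ρ (rep c : G) * (u c : Module.End E V)) := by
          intro n
          have hcn := (hC _).mp (u c).2 n⁻¹
          rw [Subgroup.coe_inv] at hcn
          have e : ⁅(rep c₀ : G), (n : G)⁆ * ((n : G) * (rep c : G) * (n : G)⁻¹) =
              ⁅(rep c₀ : G) * (rep c : G)⁻¹, (n : G)⁆ * (rep c : G) := by
            have hmem := hcom _ (inv_mem (rep c).2) n n.2
            have aux : ⁅(rep c : G)⁻¹, (n : G)⁆ * (rep c : G) = (n : G) * (rep c : G) * (n : G)⁻¹ := by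
              rw [← hZ _ hmem (rep c : G)]; simp only [commutatorElement_def]; group
            rw [hlin _ (rep c₀).2 _ (inv_mem (rep c).2) n n.2, ← aux, mul_assoc]
          calc ρ ⁅(rep c₀ : G), (n : G)⁆ * (ρ (n : G) * (ρ (rep c : G) * (u c : Module.End E V) * ρ (n : G)⁻¹))
              = ρ ⁅(rep c₀ : G), (n : G)⁆ * (ρ (n : G) * (ρ (rep c : G) * (ρ (n : G)⁻¹ * (u c : Module.End E V)))) := by
                rw [mul_assoc (ρ (rep c : G)), ← hcn]
            _ = ρ (⁅(rep c₀ : G), (n : G)⁆ * ((n : G) * (rep c : G) * (n : G)⁻¹)) * (u c : Module.End E V) := by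
                simp only [map_mul, mul_assoc]
            _ = _ := by rw [e, map_mul, mul_assoc]
        simp only [hn, ← Finset.sum_mul]
        split
        · next h =>
          subst h
          simp only [mul_inv_cancel, commutatorElement_one_left, map_one, Finset.sum_const, Finset.card_univ]
          rw [← Nat.cast_smul_eq_nsmul E, smul_mul_assoc, one_mul, smul_smul, inv_mul_cancel₀ hNc, one_smul]
        · next h =>
          have hne : ((rep c₀ * (rep c)⁻¹ : N) : G) ∉ Z := by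
            intro hz
            apply h
            have h2 : ((rep c₀ * (rep c)⁻¹ : N) : Rq) = 1 := (QuotientGroup.eq_one_iff _).mpr (mem_subgroupOf.mpr hz)
            rw [QuotientGroup.mk_mul, QuotientGroup.mk_inv, hrep, hrep, mul_inv_eq_one] at h2
            exact h2.symm
          have := horth _ hne
          simp only [Subgroup.coe_mul, Subgroup.coe_inv] at this
          rw [this, zero_mul, smul_zero]
      rw [Finset.sum_congr rfl fun c _ => hterm c, Fintype.sum_ite_eq'] at h1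
      have h2 := congrArg (fun z => ρ (rep c₀ : G)⁻¹ * z) h1
      simpa [← mul_assoc, rho_inv_mul] using h2
    have := LinearMap.finrank_le_finrank_of_injective hΦ
    rwa [Module.finrank_pi_fintype, Finset.sum_const, Finset.card_univ, smul_eq_mul,
      Module.finrank_linearMap] at this
  -- `x` permutes the pieces
  let σf : Rq → Rq := fun c => QuotientGroup.mk (⟨x * (rep c : G) * x⁻¹, hN.conj_mem _ (rep c).2 x⟩ : N)
  have hσmk : ∀ n : N, σf (n : Rq) = QuotientGroup.mk (⟨x * (n : G) * x⁻¹, hN.conj_mem _ n.2 x⟩ : N) := by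
    intro n
    refine QuotientGroup.eq.mpr (mem_subgroupOf.mpr ?_)
    show (x * (rep n : G) * x⁻¹)⁻¹ * (x * (n : G) * x⁻¹) ∈ Z
    rw [show (x * (rep n : G) * x⁻¹)⁻¹ * (x * (n : G) * x⁻¹) = x * ((rep n : G)⁻¹ * n) * x⁻¹ by group]
    exact hZn.conj_mem _ (mem_subgroupOf.mp (QuotientGroup.eq.mp (hrep n))) x
  have hσit : ∀ j (n : N), σf^[j] (n : Rq) =
      QuotientGroup.mk (⟨x ^ j * (n : G) * (x ^ j)⁻¹, hN.conj_mem _ n.2 _⟩ : N) := by
    intro j
    induction j with
    | zero => intro n; exact congrArg (QuotientGroup.mk (s := Z₁)) (Subtype.ext (by simp))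
    | succ j ih =>
      intro n
      rw [Function.iterate_succ_apply', ih, hσmk]
      exact congrArg (QuotientGroup.mk (s := Z₁)) (Subtype.ext (by simp [pow_succ', mul_assoc]))
  have hσp : ∀ c, σf^[p] c = c := fun c => by
    obtain ⟨n, rfl⟩ := QuotientGroup.mk_surjective c
    rw [hσit]
    exact congrArg (QuotientGroup.mk (s := Z₁)) (Subtype.ext (by simp [hx]))
  have hσbij : Function.Bijective σf := by
    refine Finite.injective_iff_bijective.mp fun a b h => ?_
    rw [← hσp a, ← hσp b, show p = p - 1 + 1 from (Nat.sub_add_cancel hp.out.one_le).symm,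
      Function.iterate_succ_apply, Function.iterate_succ_apply, h]
  let σ : Equiv.Perm Rq := Equiv.ofBijective σf hσbij
  have hσpow : σ ^ p = 1 := Equiv.ext fun c => by
    have hit : ∀ j, (σ ^ j) c = σf^[j] c := by
      intro j
      induction j with
      | zero => rfl
      | succ j ih => rw [pow_succ', Equiv.Perm.mul_apply, ih, Function.iterate_succ_apply']; rfl
    rw [hit, hσp]; rfl
  let T : Module.End E V →ₗ[E] Module.End E V :=
    (LinearMap.mulLeft E (ρ x)).comp (LinearMap.mulRight E (ρ x⁻¹))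
  have hTapply : ∀ f, T f = ρ x * (f * ρ x⁻¹) := fun f => rfl
  have hO := orbit_count σ hσpow
  have hW := fix_le_orbits σ T (fun c => P (rep c)) d hd
    (fun f hf => by rw [← hswap f]; exact Finset.sum_eq_zero fun c _ => hf c) (fun c f => by
      show P (rep (σf c)) (T f) = T (P (rep c) f)
      set v := rep c
      have hcv : σf c = QuotientGroup.mk (⟨x * (v : G) * x⁻¹, hN.conj_mem _ v.2 x⟩ : N) := rfl
      rw [hcv, ← hPdep, hPapply, hPapply, hTapply, hTapply, smul_mul_assoc, mul_smul_comm, Finset.sum_mul,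
        Finset.mul_sum]
      congr 1
      refine (Fintype.sum_equiv ((MulAut.conjNormal x : MulAut N).toEquiv) _ _ fun n => ?_).symm
      show _ = ρ ⁅x * (v : G) * x⁻¹, x * (n : G) * x⁻¹⁆ *
        (ρ (x * (n : G) * x⁻¹) * (ρ x * (f * ρ x⁻¹) * ρ (x * (n : G) * x⁻¹)⁻¹))
      have e1 : ⁅x * (v : G) * x⁻¹, x * (n : G) * x⁻¹⁆ * ((x * (n : G) * x⁻¹) * x) =
          x * (⁅(v : G), (n : G)⁆ * n) := by simp only [commutatorElement_def]; group
      have e2 : x⁻¹ * (x * (n : G) * x⁻¹)⁻¹ = (n : G)⁻¹ * x⁻¹ := by group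
      calc ρ x * (ρ ⁅(v : G), (n : G)⁆ * (ρ (n : G) * (f * ρ (n : G)⁻¹)) * ρ x⁻¹)
          = ρ (x * (⁅(v : G), (n : G)⁆ * n)) * f * ρ ((n : G)⁻¹ * x⁻¹) := by simp only [map_mul, mul_assoc]
        _ = ρ (⁅x * (v : G) * x⁻¹, x * (n : G) * x⁻¹⁆ * ((x * (n : G) * x⁻¹) * x)) * f *
              ρ (x⁻¹ * (x * (n : G) * x⁻¹)⁻¹) := by rw [e1, e2]
        _ = _ := by simp only [map_mul, mul_assoc])
  have hf : Nat.card {c : Rq // σ c = c} ≤
      Nat.card {c : Rq // ∃ n : N, (n : Rq) = c ∧ ⁅x, (n : G)⁆ ∈ Z} := by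
    refine Nat.card_le_card_of_injective (fun c => ⟨c.1, rep c.1, hrep _, ?_⟩) fun a b h =>
      Subtype.ext (congrArg (fun z => z.1) h)
    have h1 : σf c.1 = c.1 := c.2
    conv_rhs at h1 => rw [← hrep c.1]
    have h2 := mem_subgroupOf.mp (QuotientGroup.eq.mp h1.symm)
    have h3 := hZn.conj_mem _ h2 (rep c.1 : G)
    simpa [commutatorElement_def, mul_assoc] using h3
  -- the lower bound
  set W := LinearMap.ker (ρ x - 1) with hWdef
  set U := LinearMap.range (ρ x - 1)
  have hWfix : ∀ w ∈ W, ρ x w = w := fun w hw => by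
    rwa [hWdef, LinearMap.mem_ker, LinearMap.sub_apply, Module.End.one_apply, sub_eq_zero] at hw
  have hxinv : ∀ w ∈ W, ρ x⁻¹ w = w := fun w hw => by
    conv_lhs => rw [← hWfix w hw]
    exact FixSpace.inv_apply x w
  let Ψ₀ : ((V ⧸ U) →ₗ[E] W) →ₗ[E] Module.End E V :=
    { toFun := fun φ => W.subtype.comp (φ.comp U.mkQ)
      map_add' := fun a b => LinearMap.ext fun v => by simp
      map_smul' := fun c a => LinearMap.ext fun v => by simp }
  let Ψ : (((V ⧸ U) →ₗ[E] W) × E) →ₗ[E] LinearMap.ker (T - 1) :=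
    LinearMap.codRestrict _ (Ψ₀.comp (LinearMap.fst E _ _) +
      (LinearMap.id.smulRight (1 : Module.End E V)).comp (LinearMap.snd E _ _)) (by
      rintro ⟨φ, c⟩
      rw [LinearMap.mem_ker, LinearMap.sub_apply, Module.End.one_apply, sub_eq_zero]
      refine LinearMap.ext fun v => ?_
      simp only [LinearMap.add_apply, LinearMap.comp_apply, LinearMap.fst_apply, LinearMap.snd_apply,
        LinearMap.smulRight_apply, LinearMap.id_apply, hTapply, Module.End.mul_apply, Ψ₀, LinearMap.coe_mk,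
        AddHom.coe_mk, LinearMap.smul_apply, Module.End.one_apply, map_add, map_smul, Submodule.subtype_apply]
      have hq : U.mkQ (ρ x⁻¹ v) = U.mkQ v := by
        rw [Submodule.mkQ_apply, Submodule.mkQ_apply, Submodule.Quotient.eq]
        refine ⟨- ρ x⁻¹ v, ?_⟩
        simp [FixSpace.apply_inv]; abel
      rw [hq, hWfix _ (φ (U.mkQ v)).2, FixSpace.apply_inv])
  have hΨ : Function.Injective Ψ := by
    rw [injective_iff_map_eq_zero]
    rintro ⟨φ, c⟩ h
    have h1 : ∀ v, (φ (U.mkQ v) : V) + c • v = 0 := fun v => by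
      have := LinearMap.congr_fun (congrArg Subtype.val h) v
      simpa [Ψ, Ψ₀] using this
    have hc : c = 0 := by
      by_contra hc
      apply hx1
      refine hinj ?_
      rw [map_one]
      refine LinearMap.ext fun v => hWfix v ?_
      have h2 : c • v ∈ W := by
        rw [← neg_eq_of_add_eq_zero_right (h1 v)]
        exact neg_mem (φ (U.mkQ v)).2
      exact (Submodule.smul_mem_iff _ hc).mp h2
    subst hc
    refine Prod.ext (LinearMap.ext fun q => ?_) rfl
    obtain ⟨v, rfl⟩ := U.mkQ_surjective q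
    exact Subtype.ext (by simpa using h1 v)
  have hlb := LinearMap.finrank_le_finrank_of_injective hΨ
  rw [Module.finrank_prod, Module.finrank_linearMap, Module.finrank_self] at hlb
  have hrn : Module.finrank E U + Module.finrank E W = Module.finrank E V :=
    LinearMap.finrank_range_add_finrank_ker _
  have hq := Submodule.finrank_quotient_add_finrank U
  have hqW : Module.finrank E (V ⧸ U) = Module.finrank E W := by omega
  rw [hqW] at hlb
  set w := Module.finrank E W
  set D := Module.finrank E V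
  set O := Nat.card (Quotient (MulAction.orbitRel (Subgroup.zpowers σ) Rq))
  rw [Nat.card_eq_fintype_card (α := Rq)] at hO hbound
  have hR4 : 4 * O ≤ Fintype.card Rq := by
    set n := Fintype.card Rq
    set f := Nat.card {c : Rq // σ c = c}
    set f' := Nat.card {c : Rq // ∃ m : N, (m : Rq) = c ∧ ⁅x, (m : G)⁆ ∈ Z}
    obtain ⟨t, ht⟩ : ∃ t, p = t + 1 := ⟨p - 1, (Nat.sub_add_cancel hp.out.one_le).symm⟩
    subst ht
    rw [Nat.add_sub_cancel] at hbound
    have h1 : (t + 1) * (4 * O) ≤ (t + 1) * n := by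
      have := Nat.mul_le_mul_left t hf
      nlinarith
    exact Nat.le_of_mul_le_mul_left h1 (Nat.succ_pos t)
  have h4 : 4 * (w * w + 1) ≤ D * D :=
    calc 4 * (w * w + 1) ≤ 4 * (O * d) := Nat.mul_le_mul_left 4 (hlb.trans hW)
      _ = (4 * O) * d := by ring
      _ ≤ Fintype.card Rq * d := Nat.mul_le_mul_right d hR4
      _ ≤ D * D := hlow
  by_contra hlt
  push Not at hlt
  nlinarith

end Cfsg.Agent.Lib.FixHalf
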