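import Cfsg.Agent.Lib.FixHalf.EndBound

/-!
Fixed space of a normally generating element of prime order at least five in a solvable irreducible
linear group: assembly.
-/

set_option autoImplicit false
set_option linter.unusedSectionVars false

open scoped commutatorElement

namespace Cfsg.Agent.Lib.FixHalf

open Subgroup
open Cfsg.Agent.Lib.FixSpace (Irred inv_apply apply_inv)

variable {k V G : Type*} [Field k] [AddCommGroup V] [Module k V] [FiniteDimensional k V] [Group G] [Finite G]

/-- The case of a normal subgroup of class two with scalars from the algebra of its centre. -/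
theorem two_mul_lt_of_minimal [Group.IsSolvable G] [Nontrivial V] (ρ : G →* Module.End k V) (hirr : Irred ρ)
    (hinj : Function.Injective ρ) {p q : ℕ} [hp : Fact p.Prime] [hq : Fact q.Prime] (h5 : 5 ≤ p) {x : G}
    (hx : x ^ p = 1) (hgen : normalClosure ({x} : Set G) = ⊤) (N Z : Subgroup G) [N.Normal] [Z.Normal]
    (hN : IsPGroup q N) (hZN : Z ≤ N) (hZ : ∀ z ∈ Z, ∀ g : G, g * z = z * g)
    (hZc : ∀ n ∈ N, (∀ m ∈ N, n * m = m * n) → n ∈ Z) (hna : ∃ a ∈ N, ∃ b ∈ N, a * b ≠ b * a)
    (hcom : ∀ a ∈ N, ∀ b ∈ N, ⁅a, b⁆ ∈ Z) (hpow : ∀ a ∈ N, a ^ q ∈ Z)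
    (hmin : ∀ M : Subgroup G, M.Normal → Z ≤ M → M ≤ N → M = Z ∨ M = N) (hxN : ∃ n ∈ N, x * n * x⁻¹ ≠ n)
    (hcard : (Nat.card N : k) ≠ 0) :
    2 * Module.finrank k (LinearMap.ker (ρ x - 1)) < Module.finrank k V := by
  classical
  have hbound := orbit_bound h5 hx hgen N Z hN hZN hZ hZc hna hcom hpow hmin hxN
  have hx1 : x ≠ 1 := by
    rintro rfl
    obtain ⟨n, -, hn⟩ := hxN
    exact hn (by simp)
  set R := imgAlg ρ Z
  have hcomm : ∀ a ∈ R, ∀ g : G, ρ g * a = a * ρ g := by
    rintro a ⟨r, rfl⟩ g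
    show ρ g * MonoidAlgebra.lift k (Module.End k V) Z (ρ.comp Z.subtype) r =
      MonoidAlgebra.lift k (Module.End k V) Z (ρ.comp Z.subtype) r * ρ g
    induction r using MonoidAlgebra.induction_on with
    | of z =>
      rw [MonoidAlgebra.lift_of]
      simp only [MonoidHom.coe_comp, Function.comp_apply, Subgroup.coe_subtype]
      rw [← map_mul, ← map_mul, hZ z z.2 g]
    | add y z hy hz => rw [map_add, mul_add, add_mul, hy, hz]
    | smul c y hy => rw [map_smul, mul_smul_comm, smul_mul_assoc, hy]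
  have hcR : ∀ a ∈ R, ∀ b ∈ R, a * b = b * a := by
    intro a ha b hb
    obtain ⟨r, rfl⟩ := ha
    show MonoidAlgebra.lift k (Module.End k V) Z (ρ.comp Z.subtype) r * b =
      b * MonoidAlgebra.lift k (Module.End k V) Z (ρ.comp Z.subtype) r
    induction r using MonoidAlgebra.induction_on with
    | of z =>
      rw [MonoidAlgebra.lift_of]
      exact hcomm b hb z
    | add y z hy hz => rw [map_add, mul_add, add_mul, hy, hz]
    | smul c y hy => rw [map_smul, mul_smul_comm, smul_mul_assoc, hy]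
  have hkerR : ∀ a ∈ R, a ≠ 0 → Function.Injective a := by
    intro a ha ha0
    rcases hirr (LinearMap.ker a) (fun g => by
        rintro _ ⟨v, hv, rfl⟩
        rw [LinearMap.mem_ker, ← Module.End.mul_apply, ← hcomm a ha g, Module.End.mul_apply,
          LinearMap.mem_ker.mp hv, map_zero]) with h | h
    · exact LinearMap.ker_eq_bot.mp h
    · exact absurd (LinearMap.ker_eq_top.mp h) ha0
  have hfield : ∀ a ∈ R, a ≠ 0 → ∃ b ∈ R, a * b = 1 := by
    refine (exists_idem_or_field R hcR fun a ha h => ?_).resolve_left ?_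
    · by_contra ha0
      exact ha0 (LinearMap.ext fun v => hkerR a ha ha0 (by
        rw [← Module.End.mul_apply, h]; simp))
    · rintro ⟨e, he, hee, he0, he1⟩
      exact he1 (LinearMap.ext fun v => hkerR e he he0 (by
        rw [← Module.End.mul_apply, hee]; rfl))
  haveI : Nontrivial R := ⟨⟨1, 0, fun h => one_ne_zero (congrArg Subtype.val h : (1 : Module.End k V) = 0)⟩⟩
  have hF : IsField R :=
    ⟨exists_pair_ne R, fun a b => Subtype.ext (hcR a a.2 b b.2), fun {a} ha => by
      obtain ⟨b, hb, hab⟩ := hfield a a.2 fun h => ha (Subtype.ext h)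
      exact ⟨⟨b, hb⟩, Subtype.ext hab⟩⟩
  letI : Field R := hF.toField
  haveI : FiniteDimensional R V := Module.Finite.of_restrictScalars_finite k R V
  have hsmul : ∀ (a : R) (v : V), a • v = (a : Module.End k V) v := fun a v => rfl
  let f : G → Module.End R V := fun g =>
    { toFun := ρ g
      map_add' := map_add (ρ g)
      map_smul' := fun a v => by
        show ρ g ((a : Module.End k V) v) = (a : Module.End k V) (ρ g v)
        rw [← Module.End.mul_apply, hcomm a a.2 g, Module.End.mul_apply] }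
  let ρE : G →* Module.End R V :=
    { toFun := f
      map_one' := LinearMap.ext fun v => by show ρ 1 v = v; rw [map_one]; rfl
      map_mul' := fun g h => LinearMap.ext fun v => by show ρ (g * h) v = ρ g (ρ h v); rw [map_mul]; rfl }
  have hρE : ∀ g v, ρE g v = ρ g v := fun g v => rfl
  have hinjE : Function.Injective ρE := fun a b h => hinj (LinearMap.ext fun v => LinearMap.congr_fun h v)
  have hcardE : (Nat.card N : R) ≠ 0 := by
    intro h
    apply hcard
    apply FaithfulSMul.algebraMap_injective k R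
    rw [map_natCast, h, map_zero]
  have main := two_mul_lt_of_classTwo ρE hinjE N Z hZN hZ
    (fun z hz => ⟨⟨ρ z, rho_mem_imgAlg Z hz⟩, LinearMap.ext fun v => rfl⟩) hZc hcom hcardE hx hx1 hbound
  have e : LinearMap.ker (ρE x - 1) ≃ₗ[k] LinearMap.ker (ρ x - 1) :=
    { toFun := fun v => ⟨v.1, v.2⟩
      invFun := fun v => ⟨v.1, v.2⟩
      map_add' := fun a b => rfl
      map_smul' := fun c a => rfl }
  rw [← e.finrank_eq, ← Module.finrank_mul_finrank k R V, ← Module.finrank_mul_finrank k R (LinearMap.ker (ρE x - 1)),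
    ← mul_assoc, mul_comm 2, mul_assoc]
  exact Nat.mul_lt_mul_of_pos_left main Module.finrank_pos

/-- A finite solvable irreducible group generated by conjugates of an element of prime order at least five. -/
theorem two_mul_fixed_lt [Group.IsSolvable G] [Nontrivial V] (ρ : G →* Module.End k V) (hirr : Irred ρ)
    (hinj : Function.Injective ρ) {p : ℕ} [hp : Fact p.Prime] (h5 : 5 ≤ p) {x : G}
    (hx : x ^ p = 1) (hx1 : x ≠ 1) (hgen : normalClosure ({x} : Set G) = ⊤) :
    2 * Module.finrank k (LinearMap.ker (ρ x - 1)) < Module.finrank k V := by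
  classical
  by_cases hcen : x ∈ center G
  · rcases hirr (LinearMap.ker (ρ x - 1)) (fun g => by
        rintro _ ⟨v, hv, rfl⟩
        rw [SetLike.mem_coe, LinearMap.mem_ker, LinearMap.sub_apply, Module.End.one_apply, sub_eq_zero] at hv
        rw [LinearMap.mem_ker, LinearMap.sub_apply, Module.End.one_apply, sub_eq_zero, ← Module.End.mul_apply,
          ← map_mul, ← mem_center_iff.mp hcen g, map_mul, Module.End.mul_apply, hv]) with h | h
    · rw [h, finrank_bot]; simpa using Module.finrank_pos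
    · exact absurd (hinj ((sub_eq_zero.mp (LinearMap.ker_eq_top.mp h)).trans (map_one ρ).symm)) hx1
  -- a minimal noncentral normal subgroup
  obtain ⟨N, ⟨hNn, hNc⟩, hmin⟩ := wellFounded_lt.has_min {M : Subgroup G | M.Normal ∧ ¬ M ≤ center G}
    ⟨⊤, inferInstance, fun h => hcen (h (mem_top x))⟩
  have hsub : ∀ M : Subgroup G, M.Normal → M ≤ N → M ≠ N → M ≤ center G := fun M hM hle hne =>
    by_contra fun hc => hmin M ⟨hM, hc⟩ (lt_of_le_of_ne hle hne)
  haveI := hNn
  have hN1 : N ≠ ⊥ := by rintro rfl; exact hNc bot_le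
  have hcomlt : ⁅N, N⁆ < N := Group.IsSolvable.commutator_lt_of_ne_bot hN1
  have hcom' : ⁅N, N⁆ ≤ center G := hsub _ inferInstance hcomlt.le hcomlt.ne
  haveI hnil : Group.IsNilpotent N := by
    refine Subgroup.isNilpotent_of_ker_le_center (Abelianization.of (G := N)) ?_
    rw [Abelianization.ker_of]
    intro a ha
    rw [mem_center_iff]
    intro b
    have : (a : G) ∈ ⁅N, N⁆ := by
      rw [← Subgroup.map_subtype_commutator]
      exact mem_map_of_mem _ ha
    exact Subtype.ext (mem_center_iff.mp (hcom' this) b)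
  -- it is a `q`-group
  obtain ⟨q, hq, hNq⟩ : ∃ q, q.Prime ∧ IsPGroup q N := by
    by_contra hno
    push Not at hno
    apply hNc
    set C := (center G).subgroupOf N
    have hC : C = ⊤ := by
      refine eq_top_of_le_card C (Nat.le_of_dvd Nat.card_pos ?_)
      rw [Nat.dvd_iff_prime_pow_dvd_dvd]
      intro r j hr hj
      haveI := Fact.mk hr
      obtain ⟨Q⟩ : Nonempty (Sylow r N) := inferInstance
      haveI : Q.Characteristic := Sylow.characteristic_of_normal Q inferInstance
      have hle : (Q : Subgroup N).map N.subtype ≤ center G := by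
        refine hsub _ inferInstance (map_subtype_le _) fun h => hno r hr ?_
        have htop : (Q : Subgroup N) = ⊤ := by
          rw [← comap_map_eq_self_of_injective N.subtype_injective (Q : Subgroup N), h]
          exact subgroupOf_self N
        exact Q.2.of_equiv ((MulEquiv.subgroupCongr htop).trans topEquiv)
      exact (Q.pow_dvd_card_of_pow_dvd_card hj).trans
        (card_dvd_of_le (map_le_iff_le_comap.mp hle))
    intro n hn
    exact mem_subgroupOf.mp (hC ▸ mem_top (⟨n, hn⟩ : N))
  haveI := Fact.mk hq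
  haveI hNnt : Nontrivial N := (nontrivial_iff_ne_bot N).mpr hN1
  obtain ⟨n₀, hn₀, hxn⟩ : ∃ n ∈ N, x * n * x⁻¹ ≠ n := by
    by_contra h
    push Not at h
    apply hNc
    intro n hn
    rw [mem_center_iff]
    intro g
    have hxC : x ∈ centralizer (N : Set G) :=
      mem_centralizer_iff.mpr fun m hm => (mul_inv_eq_iff_eq_mul.mp (h m hm)).symm
    have hg : g ∈ centralizer (N : Set G) :=
      normalClosure_le_normal (Set.singleton_subset_iff.mpr hxC) (hgen ▸ mem_top g)
    exact (mem_centralizer_iff.mp hg n hn).symm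
  -- `q` is invertible
  have hcard : (Nat.card N : k) ≠ 0 := by
    haveI := Nontrivial.to_nonempty (α := N)
    haveI : Nontrivial (center N) := hNq.center_nontrivial
    let A₀ : Subgroup G := (center N).map N.subtype
    haveI : A₀.Normal := inferInstance
    have hA₀c : ∀ a ∈ A₀, ∀ b ∈ A₀, a * b = b * a := by
      rintro _ ⟨a, ha, rfl⟩ _ ⟨b, -, rfl⟩
      exact congrArg Subtype.val (mem_center_iff.mp ha b).symm
    let A : Subgroup G :=
      { carrier := {a | a ∈ A₀ ∧ a ^ q = 1}
        one_mem' := ⟨one_mem _, one_pow _⟩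
        mul_mem' := fun {a b} ha hb => ⟨A₀.mul_mem ha.1 hb.1, by
          rw [Commute.mul_pow (hA₀c a ha.1 b hb.1), ha.2, hb.2, one_mul]⟩
        inv_mem' := fun {a} ha => ⟨A₀.inv_mem ha.1, by rw [inv_pow, ha.2, inv_one]⟩ }
    haveI : A.Normal := ⟨fun a ha g => ⟨Normal.conj_mem inferInstance a ha.1 g, by
      rw [conj_pow, ha.2, mul_one, mul_inv_cancel]⟩⟩
    have hA1 : A ≠ ⊥ := by
      obtain ⟨c, hc⟩ := exists_ne (1 : center N)
      obtain ⟨j, hj⟩ := hNq c.1
      have hdvd : q ∣ orderOf ((c : N) : G) := by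
        obtain ⟨i, -, hi⟩ := (Nat.dvd_prime_pow hq).mp
          (orderOf_dvd_of_pow_eq_one (show ((c : N) : G) ^ q ^ j = 1 from congrArg Subtype.val hj))
        rcases i with _ | i
        · rw [pow_zero, orderOf_eq_one_iff] at hi
          exact absurd (Subtype.ext (Subtype.ext hi)) hc
        · exact hi ▸ dvd_pow_self q (Nat.succ_ne_zero i)
      set a := ((c : N) : G) ^ (orderOf ((c : N) : G) / q)
      have ha : orderOf a = q := orderOf_pow_orderOf_div (orderOf_pos _).ne' hdvd
      intro h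
      have haA : a ∈ A := ⟨A₀.pow_mem ⟨c, c.2, rfl⟩ _, by rw [← ha]; exact pow_orderOf_eq_one a⟩
      rw [h, mem_bot] at haA
      rw [haA, orderOf_one] at ha
      exact hq.ne_one ha.symm
    have hq0 := exponent_ne_zero hirr hinj A (fun a ha b hb => hA₀c a ha.1 b hb.1) (q := q)
      (fun a ha => ha.2) hA1
    obtain ⟨j, hj⟩ := IsPGroup.iff_card.mp hNq
    rw [hj, Nat.cast_pow]
    exact pow_ne_zero _ hq0
  by_cases hab : ∀ a ∈ N, ∀ b ∈ N, a * b = b * a
  · exact two_mul_lt_of_abelian hirr hinj h5 hx hgen N hab hcard hn₀ hxn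
  set Z := N ⊓ center G with hZdef
  haveI : Z.Normal := inferInstanceAs (N ⊓ center G).Normal
  have hZN : Z ≤ N := inf_le_left
  have hZ : ∀ z ∈ Z, ∀ g : G, g * z = z * g := fun z hz g => mem_center_iff.mp hz.2 g
  have hZc : ∀ n ∈ N, (∀ m ∈ N, n * m = m * n) → n ∈ Z := by
    intro n hn hnm
    refine ⟨hn, hsub (N ⊓ centralizer (N : Set G)) inferInstance inf_le_left (fun h => hab fun a ha b hb => ?_)
      ⟨hn, mem_centralizer_iff.mpr fun m hm => (hnm m hm).symm⟩⟩
    exact (mem_centralizer_iff.mp (h.ge ha).2 b hb).symm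
  have hcom : ∀ a ∈ N, ∀ b ∈ N, ⁅a, b⁆ ∈ Z := fun a ha b hb =>
    ⟨hcomlt.le (commutator_mem_commutator ha hb), hcom' (commutator_mem_commutator ha hb)⟩
  have hna : ∃ a ∈ N, ∃ b ∈ N, a * b ≠ b * a := by push Not at hab; exact hab
  have hminZ : ∀ M : Subgroup G, M.Normal → Z ≤ M → M ≤ N → M = Z ∨ M = N := by
    intro M hM hZM hMN
    rcases eq_or_ne M N with h | h
    · exact Or.inr h
    · exact Or.inl (le_antisymm (le_inf hMN (hsub M hM hMN h)) hZM)
  have hpow : ∀ a ∈ N, a ^ q ∈ Z := by
    set π := QuotientGroup.mk' Z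
    have hπc : ∀ a ∈ N, ∀ b ∈ N, Commute (π a) (π b) := fun a ha b hb => by
      rw [← commutatorElement_eq_one_iff_commute, ← map_commutatorElement]
      exact (QuotientGroup.eq_one_iff _).mpr (hcom a ha b hb)
    let M : Subgroup G :=
      { carrier := {g | g ∈ N ∧ ∃ a ∈ N, π g = π a ^ q}
        one_mem' := ⟨one_mem _, 1, one_mem _, by simp⟩
        mul_mem' := fun {g h} ⟨hg, a, ha, e⟩ ⟨hh, b, hb, e'⟩ =>
          ⟨N.mul_mem hg hh, a * b, N.mul_mem ha hb, by rw [map_mul, map_mul, (hπc a ha b hb).mul_pow, e, e']⟩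
        inv_mem' := fun {g} ⟨hg, a, ha, e⟩ => ⟨N.inv_mem hg, a⁻¹, N.inv_mem ha, by rw [map_inv, map_inv, inv_pow, e]⟩ }
    have hMn : M.Normal := ⟨fun g ⟨hg, a, ha, e⟩ c => ⟨hNn.conj_mem g hg c, c * a * c⁻¹, hNn.conj_mem a ha c, by
      rw [map_mul, map_mul, map_mul, map_mul, map_inv, conj_pow, e]⟩⟩
    have hMN : M ≤ N := fun g hg => hg.1
    intro a ha
    refine ⟨N.pow_mem ha q, hsub M hMn hMN (fun h => ?_) ⟨N.pow_mem ha q, a, ha, map_pow π a q⟩⟩
    -- otherwise `q`-th powers are onto on the image of `N`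
    set Nb := N.map π
    let g : Nb → Nb := fun y => y ^ q
    have hsurj : Function.Surjective g := by
      rintro ⟨_, n, hn, rfl⟩
      obtain ⟨-, b, hb, e⟩ := h.ge hn
      exact ⟨⟨π b, mem_map_of_mem _ hb⟩, Subtype.ext e.symm⟩
    have hbij := Finite.injective_iff_surjective.mpr hsurj
    obtain ⟨c, hcN, hcZ⟩ : ∃ c ∈ N, c ∉ Z := by
      by_contra hh
      push Not at hh
      exact hNc fun n hn => (hh n hn).2
    obtain ⟨j, hj⟩ := (hNq.map π) ⟨π c, mem_map_of_mem _ hcN⟩
    have hone : ∀ (j : ℕ) (y : Nb), y ^ q ^ j = 1 → y = 1 := by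
      intro j
      induction j with
      | zero => intro y hy; simpa using hy
      | succ j ih =>
        intro y hy
        rw [pow_succ', pow_mul] at hy
        exact hbij ((ih _ hy).trans (one_pow q).symm)
    exact hcZ ((QuotientGroup.eq_one_iff _).mp (congrArg Subtype.val (hone j _ hj)))
  exact two_mul_lt_of_minimal ρ hirr hinj h5 hx hgen N Z hNq hZN hZ hZc hna hcom hpow hminZ ⟨n₀, hn₀, hxn⟩ hcard

end Cfsg.Agent.Lib.FixHalf
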