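import Cfsg.Agent.Lib.FixHalf.Supplement
import Cfsg.Agent.Lib.PGroupFrattini
import Cfsg.Agent.Lib.Uniq.PLengthAux
import Cfsg.Agent.Lib.Hall.Basic

/-!
A maximal solvable subgroup generated by two conjugates of a subgroup of prime order at least five:
its normal `q'`-subgroups centralize the `q`-subgroups it normalizes.
-/

set_option autoImplicit false
set_option linter.unusedSectionVars false

open scoped commutatorElement Pointwise

namespace Cfsg.Agent.Lib.FixHalf

open Subgroup Cfsg

variable {G : Type*} [Group G] [Finite G]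

/-- A normal `q'`-subgroup of `A` centralizes every `q`-subgroup normalized by `A`. -/
theorem le_centralizer_of_max {p q : ℕ} [hp : Fact p.Prime] [hq : Fact q.Prime] (h5 : 5 ≤ p) (A : Subgroup G)
    [hsA : Group.IsSolvable A] {a x : G} (ha : a ∈ A) (hxA : x ∈ A) (hgen : zpowers x ⊔ zpowers (a * x * a⁻¹) = A)
    (hxp : x ^ p = 1)
    (hmax : ∀ B : Subgroup G, A ≤ B → Group.IsSolvable B →
      (∃ b ∈ B, B = zpowers x ⊔ zpowers (b * x * b⁻¹)) → B = A)
    (D : Subgroup G) (hDA : D ≤ A) (hDn : A ≤ normalizer (D : Set G)) (hcop : (Nat.card D).Coprime q) :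
    ∀ U : Subgroup G, IsPGroup q U → A ≤ normalizer (U : Set G) → D ≤ centralizer (U : Set G) := by
  classical
  intro U
  induction U using WellFoundedLT.induction with
  | _ U ih =>
    intro hU hAU
    by_contra hne
    have hDU : D ≤ normalizer (U : Set G) := hDA.trans hAU
    obtain ⟨n, hn⟩ := IsPGroup.iff_card.mp hU
    have hcU : (Nat.card D).Coprime (Nat.card U) := hn ▸ hcop.pow_right n
    have hsolU : Group.IsSolvable U := by
      haveI := hU.isNilpotent
      infer_instance
    have hUD : ⁅U, D⁆ = U := by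
      by_contra h
      have hle : ⁅U, D⁆ ≤ U := Coprime.commutator_le_of_le_normalizer' hDU
      have hnA : A ≤ normalizer ((⁅U, D⁆ : Subgroup G) : Set G) := by
        intro g hg
        refine Coprime.mem_normalizer_of_conj_smul_eq ?_
        show (⁅U, D⁆).map (MulAut.conj g).toMonoidHom = ⁅U, D⁆
        rw [map_commutator]
        congr 1
        · exact Coprime.conj_smul_eq_self (hAU hg)
        · exact Coprime.conj_smul_eq_self (hDn hg)
      have hc := ih _ (lt_of_le_of_ne hle h) (hU.to_le hle) hnA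
      have h0 : ⁅⁅U, D⁆, D⁆ = ⊥ := commutator_eq_bot_iff_le_centralizer.mpr (le_centralizer_iff.mp hc)
      rw [Coprime.commutator_commutator hDU hcU (Or.inr hsolU), commutator_eq_bot_iff_le_centralizer,
        le_centralizer_iff] at h0
      exact hne h0
    have hAUc : ∀ d ∈ D, ∀ u ∈ A ⊓ U, d * u = u * d := by
      intro d hd u hu
      have h1 : ⁅d, u⁆ ∈ D ⊓ U := by
        refine ⟨?_, ?_⟩
        · rw [show ⁅d, u⁆ = d * (u * d⁻¹ * u⁻¹) by simp only [commutatorElement_def]; group]
          exact D.mul_mem hd ((mem_normalizer_iff.mp (hDn hu.1) _).mp (D.inv_mem hd))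
        · rw [commutatorElement_def]
          exact U.mul_mem ((mem_normalizer_iff.mp (hDU hd) u).mp hu.2) (U.inv_mem hu.2)
      rw [Coprime.inf_eq_bot_of_coprime hcU, mem_bot, commutatorElement_eq_one_iff_mul_comm] at h1
      exact h1
    -- pass to `A ⊔ U` modulo the Frattini subgroup of `U`
    set Φ := (frattini U).map U.subtype
    have hΦU : Φ ≤ U := map_subtype_le _
    have hAΦ : A ≤ normalizer (Φ : Set G) := hAU.trans (Lib.Uniq.PL.normalizer_le_normalizer_map_char U (frattini U))
    set S := A ⊔ U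
    have hUn : (U.subgroupOf S).Normal :=
      (normal_subgroupOf_iff_le_normalizer le_sup_right).mpr (sup_le hAU le_normalizer)
    have hΦn : (Φ.subgroupOf S).Normal :=
      (normal_subgroupOf_iff_le_normalizer (hΦU.trans le_sup_right)).mpr
        (sup_le hAΦ (le_normalizer.trans (Lib.Uniq.PL.normalizer_le_normalizer_map_char U (frattini U))))
    set π := QuotientGroup.mk' (Φ.subgroupOf S)
    have hπ : Function.Surjective π := QuotientGroup.mk'_surjective _
    set V := (U.subgroupOf S).map π
    set Ab := (A.subgroupOf S).map π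
    set Db := (D.subgroupOf S).map π
    haveI hVn : V.Normal := hUn.map _ hπ
    haveI : Group.IsSolvable (A.subgroupOf S) :=
      Group.isSolvable_of_isSolvable_injective (f := (subgroupOfEquivOfLe (H := A) (K := S) le_sup_left).toMonoidHom)
        (subgroupOfEquivOfLe (H := A) (K := S) le_sup_left).injective
    haveI : Group.IsSolvable Ab := Group.isSolvable_of_surjective (π.subgroupMap_surjective _)
    have hV : IsElementaryAbelian q V := by
      refine ⟨⟨⟨?_⟩⟩, ?_⟩
      · rintro ⟨_, u, hu, rfl⟩ ⟨_, v, hv, rfl⟩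
        refine Subtype.ext (?_ : π u * π v = π v * π u)
        rw [← map_mul, ← map_mul]
        refine QuotientGroup.eq.mpr (mem_subgroupOf.mpr ?_)
        rw [SetLike.mem_coe, mem_subgroupOf] at hu hv
        refine ⟨(⟨u, hu⟩ * ⟨v, hv⟩)⁻¹ * (⟨v, hv⟩ * ⟨u, hu⟩), ?_, rfl⟩
        have h := Lib.PGroupFrattini.commutator_le_frattini hU
          (commutator_mem_commutator (mem_top (⟨v, hv⟩⁻¹ : U)) (mem_top (⟨u, hu⟩⁻¹ : U)))
        have e : ∀ c d : U, (c * d)⁻¹ * (d * c) = ⁅d⁻¹, c⁻¹⁆ := fun c d => by
          simp only [commutatorElement_def]; group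
        rw [e]; exact h
      · rintro _ ⟨u, hu, rfl⟩
        rw [← map_pow]
        refine (QuotientGroup.eq_one_iff _).mpr (mem_subgroupOf.mpr ⟨⟨u, mem_subgroupOf.mp hu⟩ ^ q, ?_, rfl⟩)
        exact Lib.PGroupFrattini.pow_mem_frattini hU _
    have htop : Ab ⊔ V = ⊤ := by
      rw [← Subgroup.map_sup, ← subgroupOf_sup le_sup_left le_sup_right, subgroupOf_self, map_top_of_surjective _ hπ]
    have hVD : ⁅V, Db⁆ = V := by
      rw [← map_commutator]
      congr 1
      refine map_injective S.subtype_injective ?_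
      rw [map_commutator, map_subgroupOf_eq_of_le le_sup_right,
        map_subgroupOf_eq_of_le (hDA.trans le_sup_left), hUD]
    haveI : IsMulCommutative V := hV.1
    have hDbn : Db ≤ normalizer (V : Set _) := by rw [normalizer_eq_top (H := V)]; exact le_top
    have hcop' : (Nat.card Db).Coprime (Nat.card V) := by
      refine (hcU.coprime_dvd_left ?_).coprime_dvd_right ?_
      · exact (card_map_dvd _ _).trans (dvd_of_eq (Nat.card_congr (subgroupOfEquivOfLe (H := D) (K := S) (hDA.trans le_sup_left)).toEquiv))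
      · exact (card_map_dvd _ _).trans (dvd_of_eq (Nat.card_congr (subgroupOfEquivOfLe (H := U) (K := S) le_sup_right).toEquiv))
    have hfix : V ⊓ centralizer (Db : Set _) = ⊥ := by
      have h := Coprime.inf_centralizer_inf_commutator hDbn hcop'
      rwa [hVD, inf_eq_left.mpr inf_le_left] at h
    have hAbn : Ab ≤ normalizer (Db : Set _) := by
      refine le_trans (map_mono ?_) (le_normalizer_map _)
      intro g hg
      rw [mem_normalizer_iff]
      intro d
      simpa [mem_subgroupOf] using mem_normalizer_iff.mp (hDn (mem_subgroupOf.mp hg)) (d : G)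
    have hAi : Ab ⊓ V = ⊥ := by
      rw [eq_bot_iff, ← hfix]
      rintro z ⟨⟨g, hg, rfl⟩, hzV⟩
      refine ⟨hzV, mem_centralizer_iff.mpr ?_⟩
      rintro _ ⟨d, hd, rfl⟩
      rw [SetLike.mem_coe, mem_subgroupOf] at hg hd
      have hgU : (g : G) ∈ U := by
        have h2 : g ∈ ((U.subgroupOf S).map π).comap π := hzV
        rw [comap_map_eq, QuotientGroup.ker_mk'] at h2
        exact mem_subgroupOf.mp ((sup_le le_rfl (comap_mono (f := S.subtype) hΦU)) h2)
      rw [← map_mul, ← map_mul]
      exact congrArg π (Subtype.ext (hAUc d hd g ⟨hg, hgU⟩))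
    have hV1 : V ≠ ⊥ := by
      intro h
      have hle : U.subgroupOf S ≤ Φ.subgroupOf S := by
        have := (Subgroup.map_eq_bot_iff _).mp h
        rwa [QuotientGroup.ker_mk'] at this
      have hUΦ : U ≤ Φ := fun u hu => hle (show (⟨u, mem_sup_right hu⟩ : S) ∈ U.subgroupOf S from hu)
      have htopU : frattini U = ⊤ := map_injective U.subtype_injective (by
        rw [← MonoidHom.range_eq_map, range_subtype]; exact le_antisymm hΦU hUΦ)
      haveI : Nontrivial U := by
        rw [nontrivial_iff_ne_bot]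
        rintro rfl
        exact hne (fun d _ => mem_centralizer_iff.mpr fun z hz => by simp [mem_bot.mp hz])
      haveI : Finite U := inferInstance
      exact bot_ne_top (frattini_nongenerating (K := (⊥ : Subgroup U)) (by rw [htopU, bot_sup_eq]))
    have hmin : ∀ M : Subgroup (↥S ⧸ Φ.subgroupOf S), M.Normal → M ≤ V → M = ⊥ ∨ M = V := by
      intro M hM hMV
      set M' := (M.comap π).map S.subtype
      have hM'U : M' ≤ U := by
        rintro _ ⟨g, hg, rfl⟩
        have h2 : g ∈ ((U.subgroupOf S).map π).comap π := hMV hg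
        rw [comap_map_eq, QuotientGroup.ker_mk'] at h2
        exact mem_subgroupOf.mp ((sup_le le_rfl (comap_mono (f := S.subtype) hΦU)) h2)
      rcases eq_or_ne M' U with h | h
      · right
        rw [← map_comap_eq_self_of_surjective hπ M]
        refine congrArg (Subgroup.map π) ?_
        rw [← h]
        exact (comap_map_eq_self_of_injective S.subtype_injective _).symm
      · left
        have hnA : A ≤ normalizer (M' : Set G) :=
          (le_sup_left : A ≤ S).trans (le_of_eq_of_le (by
            rw [normalizer_eq_top (H := M.comap π), ← MonoidHom.range_eq_map, range_subtype])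
            (le_normalizer_map S.subtype))
        have hc := ih M' (lt_of_le_of_ne hM'U h) (hU.to_le hM'U) hnA
        rw [eq_bot_iff, ← hfix]
        intro z hz
        refine ⟨hMV hz, mem_centralizer_iff.mpr ?_⟩
        rintro _ ⟨d, hd, rfl⟩
        obtain ⟨g, rfl⟩ := hπ z
        rw [← map_mul, ← map_mul]
        exact congrArg π (Subtype.ext (mem_centralizer_iff.mp (hc (mem_subgroupOf.mp hd)) g ⟨g, hz, rfl⟩).symm)
    -- generators
    let xs : S := ⟨x, mem_sup_left hxA⟩
    let as : S := ⟨a, mem_sup_left ha⟩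
    have hgen' : zpowers (π xs) ⊔ zpowers (π as * π xs * (π as)⁻¹) = Ab := by
      rw [← map_inv, ← map_mul, ← map_mul, ← MonoidHom.map_zpowers, ← MonoidHom.map_zpowers, ← Subgroup.map_sup]
      congr 1
      refine map_injective S.subtype_injective ?_
      rw [Subgroup.map_sup, MonoidHom.map_zpowers, MonoidHom.map_zpowers, map_subgroupOf_eq_of_le le_sup_left]
      exact hgen
    obtain ⟨v, hv, hvgen⟩ := exists_sup_eq_top h5 V Ab Db hV htop hAi hmin (map_mono (comap_mono (f := S.subtype) hDA)) hAbn hcop'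
      hfix hV1 (a := π as) (x := π xs) ⟨as, ha, rfl⟩ ⟨xs, hxA, rfl⟩ hgen'
      (by rw [← map_pow]; exact (congrArg π (Subtype.ext (by simpa using hxp) : xs ^ p = 1)).trans (map_one π))
    obtain ⟨u, hu, rfl⟩ := hv
    rw [SetLike.mem_coe, mem_subgroupOf] at hu
    let b : S := u * as
    set Bs := zpowers xs ⊔ zpowers (b * xs * b⁻¹)
    have hBmap : Bs.map π = ⊤ := by
      rw [← hvgen, Subgroup.map_sup, MonoidHom.map_zpowers, MonoidHom.map_zpowers]
      congr 2
      rw [show b * xs * b⁻¹ = u * (as * xs * as⁻¹) * u⁻¹ by simp only [b]; group]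
      simp only [map_mul, map_inv]
    set B := Bs.map S.subtype
    have hBS : B ≤ S := map_subtype_le _
    have hsup : ∀ g ∈ S, g ∈ B ⊔ Φ := by
      intro g hg
      have h2 : (⟨g, hg⟩ : S) ∈ (Bs.map π).comap π := by rw [hBmap]; exact mem_top _
      rw [comap_map_eq, QuotientGroup.ker_mk'] at h2
      have h3 := mem_map_of_mem S.subtype h2
      rwa [Subgroup.map_sup, map_subgroupOf_eq_of_le (hΦU.trans le_sup_right)] at h3
    have hUB : U ≤ B := by
      have hBΦ : B ≤ normalizer (Φ : Set G) :=
        hBS.trans (sup_le hAΦ (le_normalizer.trans (Lib.Uniq.PL.normalizer_le_normalizer_map_char U (frattini U))))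
      have h1 : B.subgroupOf U ⊔ frattini U = ⊤ := by
        rw [eq_top_iff']
        rintro ⟨g, hg⟩
        obtain ⟨c, hc, w, hw, rfl⟩ := (Coprime.mem_sup_of_le_normalizer hBΦ).mp (hsup g (mem_sup_right hg))
        have hcU : c ∈ U := by
          have := U.mul_mem hg (U.inv_mem (hΦU hw))
          rwa [mul_inv_cancel_right] at this
        obtain ⟨w', hw', rfl⟩ := hw
        exact mul_mem (mem_sup_left (show (⟨c, hcU⟩ : U) ∈ B.subgroupOf U from hc)) (mem_sup_right hw')
      haveI : Finite U := inferInstance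
      exact subgroupOf_eq_top.mp (frattini_nongenerating h1)
    have hBeq : B = S := le_antisymm hBS fun g hg => (sup_le le_rfl (hΦU.trans hUB)) (hsup g hg)
    haveI : Group.IsSolvable S := by
      haveI : Group.IsSolvable (U.subgroupOf S) := Coprime.isSolvable_subgroupOf U S
      haveI : Group.IsSolvable (↥S ⧸ U.subgroupOf S) := by
        refine Group.isSolvable_of_surjective (f := (QuotientGroup.mk' (U.subgroupOf S)).comp (inclusion (le_sup_left : A ≤ S))) ?_
        intro c
        obtain ⟨⟨g, hg⟩, rfl⟩ := QuotientGroup.mk'_surjective _ c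
        obtain ⟨g₁, h1, g₂, h2, rfl⟩ := (Coprime.mem_sup_of_le_normalizer hAU).mp hg
        refine ⟨⟨g₁, h1⟩, ?_⟩
        refine QuotientGroup.eq.mpr (mem_subgroupOf.mpr ?_)
        show g₁⁻¹ * (g₁ * g₂) ∈ U
        rwa [inv_mul_cancel_left]
      exact Group.isSolvable_of_ker_le_range (U.subgroupOf S).subtype (QuotientGroup.mk' (U.subgroupOf S))
        (by rw [QuotientGroup.ker_mk', range_subtype])
    have hBgen : B = zpowers x ⊔ zpowers ((b : G) * x * (b : G)⁻¹) := by
      show (zpowers xs ⊔ zpowers (b * xs * b⁻¹)).map S.subtype = _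
      rw [Subgroup.map_sup, MonoidHom.map_zpowers, MonoidHom.map_zpowers]
      rfl
    have hBA := hmax S le_sup_left inferInstance ⟨b, b.2, hBeq.symm.trans hBgen⟩
    refine hne fun d hd => mem_centralizer_iff.mpr fun z hz => ?_
    exact (hAUc d hd z ⟨hBA.le (mem_sup_right hz), hz⟩).symm

/-- `F(A) V` is nilpotent for a nilpotent `V` normalized by a maximal `A`. -/
theorem nilpotent_fitting_sup {p : ℕ} [hp : Fact p.Prime] (h3 : 3 < p) (P : Subgroup G) (hP : Nat.card P = p)
    (A : Subgroup G) (hsol : Group.IsSolvable A) (hA : ∃ a ∈ A, A = P ⊔ P.map (MulAut.conj a).toMonoidHom)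
    (hmax : ∀ B : Subgroup G, A ≤ B → Group.IsSolvable B →
      (∃ b ∈ B, B = P ⊔ P.map (MulAut.conj b).toMonoidHom) → B = A)
    (V : Subgroup G) (hV : Group.IsNilpotent V) (hAV : A ≤ normalizer (V : Set G)) :
    Group.IsNilpotent ((fittingSubgroup A).map A.subtype ⊔ V : Subgroup G) := by
  classical
  have h5 : 5 ≤ p := by
    have h4 : p ≠ 4 := fun h => by have := hp.out; rw [h] at this; norm_num at this
    omega
  obtain ⟨x, rfl⟩ : ∃ x : G, P = zpowers x := by
    haveI : IsCyclic P := isCyclic_of_prime_card hP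
    obtain ⟨y, hy⟩ := IsCyclic.exists_generator (α := P)
    refine ⟨y, le_antisymm (fun g hg => ?_) (zpowers_le.mpr y.2)⟩
    obtain ⟨i, hi⟩ := hy ⟨g, hg⟩
    exact ⟨i, congrArg Subtype.val hi⟩
  have hxp : x ^ p = 1 := by
    rw [← hP, Nat.card_zpowers]; exact pow_orderOf_eq_one x
  obtain ⟨a, ha, hAeq⟩ := hA
  have hmap : ∀ b : G, (zpowers x).map (MulAut.conj b).toMonoidHom = zpowers (b * x * b⁻¹) := fun b =>
    MonoidHom.map_zpowers _ _
  simp only [hmap] at hAeq hmax
  have hxA : x ∈ A := hAeq ▸ mem_sup_left (mem_zpowers x)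
  have key : ∀ (q : ℕ) (_ : q.Prime) (D U : Subgroup G), D ≤ A → A ≤ normalizer (D : Set G) →
      (Nat.card D).Coprime q → IsPGroup q U → A ≤ normalizer (U : Set G) → D ≤ centralizer (U : Set G) :=
    fun q hq D U hDA hDn hcop hU hAU => by
      haveI := Fact.mk hq
      exact le_centralizer_of_max h5 A ha hxA hAeq.symm hxp hmax D hDA hDn hcop U hU hAU
  -- the two families of primary parts
  let FA : ℕ → Subgroup G := fun q => (pCore q A).map A.subtype
  let FV : ℕ → Subgroup G := fun q => (pCore q V).map V.subtype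
  have hFAn : ∀ q, A ≤ normalizer (FA q : Set G) := fun q =>
    le_normalizer.trans (Lib.Uniq.PL.normalizer_le_normalizer_map_char A (pCore q A))
  have hFVn : ∀ q, A ≤ normalizer (FV q : Set G) := fun q =>
    hAV.trans (Lib.Uniq.PL.normalizer_le_normalizer_map_char V (pCore q V))
  have hFAp : ∀ q, IsPGroup q (FA q) := fun q => (Hall.isPGroup_pCore q).map _
  have hFVp : ∀ q, IsPGroup q (FV q) := fun q => (Hall.isPGroup_pCore q).map _
  let ι := ((Nat.card A).primeFactors ∪ (Nat.card V).primeFactors : Finset ℕ)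
  let T : ι → Subgroup G := fun i => FA i ⊔ FV i
  have hι : ∀ i : ι, (i : ℕ).Prime := fun i => by
    rcases Finset.mem_union.mp i.2 with h | h <;> exact Nat.prime_of_mem_primeFactors h
  have hTp : ∀ i : ι, IsPGroup (i : ℕ) (T i) := fun i =>
    IsPGroup.to_sup_of_normal_right' (hFAp i) (hFVp i) ((map_subtype_le _).trans (hFVn i))
  have hAVc : ∀ q r : ℕ, q.Prime → r.Prime → q ≠ r → ∀ u ∈ FA q, ∀ v ∈ FV r, Commute u v := by
    intro q r hq hr hqr u hu v hv
    haveI := Fact.mk hq
    obtain ⟨n, hn⟩ := IsPGroup.iff_card.mp (hFAp q)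
    have h := key r hr (FA q) (FV r) (map_subtype_le _) (hFAn q)
      (by rw [hn]; exact ((Nat.coprime_primes hq hr).mpr hqr).pow_left n) (hFVp r) (hFVn r)
    exact (mem_centralizer_iff.mp (h hu) v hv).symm
  have hc : Pairwise fun i j : ι => ∀ u v : G, u ∈ T i → v ∈ T j → Commute u v := by
    intro i j hij u v hu hv
    have hne : (i : ℕ) ≠ j := fun h => hij (Subtype.ext h)
    haveI := Fact.mk (hι i)
    haveI := Fact.mk (hι j)
    have hle : T i ≤ centralizer (T j : Set G) := by
      rw [le_centralizer_iff]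
      refine sup_le ?_ ?_ <;> rw [le_centralizer_iff] <;> refine sup_le ?_ ?_ <;> intro c hc <;>
        rw [mem_centralizer_iff] <;> intro d hd
      · obtain ⟨c, hc, rfl⟩ := hc
        obtain ⟨d, hd, rfl⟩ := hd
        exact ((Hall.commute_pCore hne hc hd).map A.subtype).symm.eq
      · exact (hAVc j i (hι j) (hι i) hne.symm d hd c hc).eq
      · exact ((hAVc i j (hι i) (hι j) hne c hc d hd).symm).eq
      · obtain ⟨c, hc, rfl⟩ := hc
        obtain ⟨d, hd, rfl⟩ := hd
        exact ((Hall.commute_pCore hne hc hd).map V.subtype).symm.eq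
    exact (mem_centralizer_iff.mp (hle hu) v hv).symm
  have : ∀ i : ι, Group.IsNilpotent (T i) := fun i =>
    haveI := Fact.mk (hι i)
    (hTp i).isNilpotent
  have hrange : (noncommPiCoprod hc).range = (fittingSubgroup A).map A.subtype ⊔ V := by
    have hiso : ∀ (X : Subgroup G) (i : ℕ), i.Prime → i ∉ (Nat.card X).primeFactors → pCore i X = ⊥ := by
      intro X i hi h
      haveI := Fact.mk hi
      exact Hall.pCore_eq_bot_of_not_dvd fun hd => h (Nat.mem_primeFactors.mpr ⟨hi, hd, Nat.card_pos.ne'⟩)
    have hVtop : V = (fittingSubgroup V).map V.subtype := by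
      rw [Hall.fittingSubgroup_eq_top, ← MonoidHom.range_eq_map, range_subtype]
    rw [noncommPiCoprod_range]
    conv_rhs => rw [hVtop, Hall.fittingSubgroup_eq_iSup_pCore, Hall.fittingSubgroup_eq_iSup_pCore,
      Subgroup.map_iSup, Subgroup.map_iSup]
    refine le_antisymm (iSup_le fun i => sup_le_sup (le_iSup (fun q : Nat.Primes => (pCore (q : ℕ) A).map A.subtype) ⟨i, hι i⟩)
      (le_iSup (fun q : Nat.Primes => (pCore (q : ℕ) V).map V.subtype) ⟨i, hι i⟩)) (sup_le (iSup_le fun q => ?_) (iSup_le fun q => ?_))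
    · by_cases hq : (q : ℕ) ∈ (Nat.card A).primeFactors
      · exact le_trans le_sup_left (le_iSup T ⟨q, Finset.mem_union_left _ hq⟩)
      · rw [hiso A q q.2 hq, Subgroup.map_bot]; exact bot_le
    · by_cases hq : (q : ℕ) ∈ (Nat.card V).primeFactors
      · exact le_trans le_sup_right (le_iSup T ⟨q, Finset.mem_union_right _ hq⟩)
      · rw [hiso V q q.2 hq, Subgroup.map_bot]; exact bot_le
  rw [← hrange]
  exact Group.nilpotent_of_surjective (noncommPiCoprod hc).rangeRestrict
    (noncommPiCoprod hc).rangeRestrict_surjective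

end Cfsg.Agent.Lib.FixHalf
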