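import Cfsg.Agent.Lib.FixHalf.Main
import Cfsg.Agent.Lib.Coprime.Action
import Cfsg.Agent.Lib.Coprime.Abelian

/-!
A split extension of an irreducible module by a group generated by two conjugate elements of prime
order at least five is itself generated by two such conjugates.
-/

set_option autoImplicit false
set_option linter.unusedSectionVars false

open scoped commutatorElement Pointwise

namespace Cfsg.Agent.Lib.FixHalf

open Subgroup Cfsg

variable {H : Type*} [Group H] [Finite H]

/-- Twice the fixed space is less than the module, as a count of elements. -/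
theorem card_fixed_mul_lt {q p : ℕ} [hq : Fact q.Prime] [hp : Fact p.Prime] (h5 : 5 ≤ p)
    (V A : Subgroup H) [hVn : V.Normal] [Group.IsSolvable A] (hV : IsElementaryAbelian q V) (htop : A ⊔ V = ⊤)
    (hmin : ∀ M : Subgroup H, M.Normal → M ≤ V → M = ⊥ ∨ M = V) {a x : H} (ha : a ∈ A) (hxA : x ∈ A)
    (hgen : zpowers x ⊔ zpowers (a * x * a⁻¹) = A) (hxp : x ^ p = 1) (hAV : ¬ A ≤ centralizer (V : Set H)) :
    Nat.card (V ⊓ centralizer {x} : Subgroup H) * Nat.card (V ⊓ centralizer {x} : Subgroup H) < Nat.card V := by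
  classical
  obtain ⟨hVc, hVe⟩ := hV
  letI : CommGroup V := { (inferInstance : Group V) with mul_comm := fun u v => hVc.1.1 u v }
  letI : Module (ZMod q) (Additive V) :=
    AddCommGroup.zmodModule (n := q) (G := Additive V) (fun v =>
      show Additive.ofMul (v.toMul ^ q) = 0 from congrArg Additive.ofMul (Subtype.ext (hVe _ v.toMul.2)))
  haveI : Finite (Additive V) := inferInstanceAs (Finite V)
  haveI : FiniteDimensional (ZMod q) (Additive V) := Module.Finite.of_finite
  let φ : A →* MulAut V := (MulAut.conjNormal (H := V)).comp A.subtype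
  have hφ : ∀ (b : A) (v : V), ((φ b v : V) : H) = b * v * (b : H)⁻¹ := fun b v => rfl
  haveI : Group.IsSolvable φ.range := Group.isSolvable_of_surjective φ.rangeRestrict_surjective
  let ρ : φ.range →* Module.End (ZMod q) (Additive V) :=
    { toFun := fun e => (MonoidHom.toAdditive ((e : MulAut V) : V →* V)).toZModLinearMap q
      map_one' := LinearMap.ext fun v => rfl
      map_mul' := fun e f => LinearMap.ext fun v => rfl }
  have hρ : ∀ (b : A) (v : V), ρ (φ.rangeRestrict b) (Additive.ofMul v) = Additive.ofMul (φ b v) := fun b v => rfl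
  have hinj : Function.Injective ρ := fun e f h => Subtype.ext (MulEquiv.ext fun v =>
    congrArg Additive.toMul (LinearMap.congr_fun h (Additive.ofMul v)))
  have hirr : FixSpace.Irred ρ := by
    intro W hW
    let M : Subgroup H :=
      { carrier := {h | ∃ hh : h ∈ V, Additive.ofMul (⟨h, hh⟩ : V) ∈ W}
        one_mem' := ⟨one_mem _, W.zero_mem⟩
        mul_mem' := fun {g h} ⟨hg, hg'⟩ ⟨hh, hh'⟩ => ⟨mul_mem hg hh, W.add_mem hg' hh'⟩
        inv_mem' := fun {g} ⟨hg, hg'⟩ => ⟨inv_mem hg, W.neg_mem hg'⟩ }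
    have hMV : M ≤ V := fun h ⟨hh, _⟩ => hh
    have hMn : M.Normal := by
      refine ⟨fun m ⟨hm, hm'⟩ g => ?_⟩
      have hg : g ∈ A ⊔ V := htop ▸ mem_top g
      rw [mem_sup_of_normal_right] at hg
      obtain ⟨b, hb, v, hv, rfl⟩ := hg
      have hvm : v * m * v⁻¹ = m := by
        rw [show v * m = m * v from congrArg Subtype.val (mul_comm (⟨v, hv⟩ : V) ⟨m, hm⟩), mul_inv_cancel_right]
      rw [show b * v * m * (b * v)⁻¹ = b * (v * m * v⁻¹) * b⁻¹ by group, hvm]
      exact ⟨hVn.conj_mem m hm b, hW (φ.rangeRestrict ⟨b, hb⟩) ⟨_, hm', rfl⟩⟩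
    rcases hmin M hMn hMV with h | h
    · refine Or.inl ((Submodule.eq_bot_iff _).mpr fun w hw => ?_)
      have hm : ((w.toMul : V) : H) ∈ M := ⟨w.toMul.2, hw⟩
      rw [h, mem_bot] at hm
      exact congrArg Additive.ofMul (Subtype.ext hm : w.toMul = 1)
    · refine Or.inr (eq_top_iff.mpr fun w _ => ?_)
      obtain ⟨hh, hw⟩ := h.ge w.toMul.2
      exact hw
  haveI hnt : Nontrivial (Additive V) := by
    by_contra hV1
    rw [not_nontrivial_iff_subsingleton] at hV1
    refine hAV fun b _ => mem_centralizer_iff.mpr fun v hv => ?_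
    have hv1 : v = 1 := congrArg Subtype.val (Subsingleton.elim (α := Additive V) (⟨v, hv⟩ : V) (1 : V))
    simp [hv1]
  set y := φ.rangeRestrict ⟨x, hxA⟩
  have hy : y ^ p = 1 := by
    rw [← map_pow]
    exact (congrArg φ.rangeRestrict (Subtype.ext (by simpa using hxp) : (⟨x, hxA⟩ : A) ^ p = 1)).trans (map_one _)
  have hgy : normalClosure ({y} : Set φ.range) = ⊤ := by
    rw [eq_top_iff']
    have hle : A ≤ ((normalClosure ({y} : Set φ.range)).comap φ.rangeRestrict).map A.subtype := by
      conv_lhs => rw [← hgen]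
      refine sup_le (zpowers_le.mpr ⟨⟨x, hxA⟩, subset_normalClosure (Set.mem_singleton y), rfl⟩)
        (zpowers_le.mpr ⟨⟨a, ha⟩ * ⟨x, hxA⟩ * ⟨a, ha⟩⁻¹, ?_, rfl⟩)
      show φ.rangeRestrict _ ∈ normalClosure _
      rw [map_mul, map_mul, map_inv]
      exact normalClosure_normal.conj_mem _ (subset_normalClosure (Set.mem_singleton y)) _
    intro e
    obtain ⟨b, rfl⟩ := φ.rangeRestrict_surjective e
    obtain ⟨b', hb', he⟩ := hle b.2
    rwa [← show b' = b from Subtype.ext he]
  have hy1 : y ≠ 1 := by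
    intro h
    refine hAV fun b hb => mem_centralizer_iff.mpr fun v hv => ?_
    have hb1 : φ.rangeRestrict ⟨b, hb⟩ = 1 := by
      have := hgy ▸ mem_top (φ.rangeRestrict ⟨b, hb⟩)
      rwa [h, normalClosure_eq_bot_iff.mpr subset_rfl, mem_bot] at this
    have h2 := congrArg (fun e : φ.range => (((e : MulAut V) ⟨v, hv⟩ : V) : H)) hb1
    simp only [MonoidHom.coe_rangeRestrict, hφ, OneMemClass.coe_one, MulAut.one_apply] at h2
    exact (mul_inv_eq_iff_eq_mul.mp h2).symm
  have main := two_mul_fixed_lt ρ hirr hinj h5 hy hy1 hgy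
  have hcard : Nat.card (V ⊓ centralizer {x} : Subgroup H) = Nat.card (LinearMap.ker (ρ y - 1)) := by
    refine Nat.card_congr
      { toFun := fun v => ⟨Additive.ofMul (⟨v.1, v.2.1⟩ : V), ?_⟩
        invFun := fun w => ⟨((w.1.toMul : V) : H), w.1.toMul.2, ?_⟩
        left_inv := fun v => rfl
        right_inv := fun w => rfl }
    · rw [LinearMap.mem_ker, LinearMap.sub_apply, Module.End.one_apply, sub_eq_zero, hρ]
      refine congrArg Additive.ofMul (Subtype.ext ?_)
      rw [hφ]
      show x * (v : H) * x⁻¹ = v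
      rw [mul_inv_eq_iff_eq_mul]
      exact (mem_centralizer_singleton_iff.mp v.2.2).symm
    · have h := w.2
      rw [LinearMap.mem_ker, LinearMap.sub_apply, Module.End.one_apply, sub_eq_zero] at h
      have h2 := congrArg (fun z : Additive V => ((z.toMul : V) : H)) h
      show ((w.1.toMul : V) : H) ∈ centralizer {x}
      rw [mem_centralizer_singleton_iff]
      exact (mul_inv_eq_iff_eq_mul.mp (show x * ((w.1.toMul : V) : H) * x⁻¹ = (w.1.toMul : V) from h2)).symm
  have hVcard : Nat.card V = q ^ Module.finrank (ZMod q) (Additive V) := by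
    rw [← Nat.card_congr (Additive.ofMul (α := V)).symm, Module.natCard_eq_pow_finrank (K := ZMod q), Nat.card_zmod]
  rw [hcard, hVcard, Module.natCard_eq_pow_finrank (K := ZMod q), Nat.card_zmod, ← pow_add, ← two_mul]
  exact Nat.pow_lt_pow_right hq.out.one_lt main

/-- Some twist of the second generator generates the whole extension. -/
theorem exists_sup_eq_top {q p : ℕ} [hq : Fact q.Prime] [hp : Fact p.Prime] (h5 : 5 ≤ p)
    (V A D : Subgroup H) [hVn : V.Normal] [Group.IsSolvable A] (hV : IsElementaryAbelian q V) (htop : A ⊔ V = ⊤)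
    (hAi : A ⊓ V = ⊥) (hmin : ∀ M : Subgroup H, M.Normal → M ≤ V → M = ⊥ ∨ M = V)
    (hDA : D ≤ A) (hDn : A ≤ normalizer (D : Set H)) (hcop : (Nat.card D).Coprime (Nat.card V))
    (hfix : V ⊓ centralizer (D : Set H) = ⊥) (hV1 : V ≠ ⊥) {a x : H} (ha : a ∈ A) (hxA : x ∈ A)
    (hgen : zpowers x ⊔ zpowers (a * x * a⁻¹) = A) (hxp : x ^ p = 1) :
    ∃ v ∈ V, zpowers x ⊔ zpowers (v * (a * x * a⁻¹) * v⁻¹) = ⊤ := by
  classical
  haveI : IsMulCommutative V := hV.1
  have hAV : ¬ A ≤ centralizer (V : Set H) := by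
    intro h
    refine hV1 ?_
    rw [← hfix]
    exact le_antisymm (le_inf le_rfl fun v hv => mem_centralizer_iff.mpr fun d hd =>
      (mem_centralizer_iff.mp (h (hDA hd)) v hv).symm) inf_le_left
  have hlt := card_fixed_mul_lt h5 V A hV htop hmin ha hxA hgen hxp hAV
  set y := a * x * a⁻¹ with hydef
  have hy : y ∈ A := A.mul_mem (A.mul_mem ha hxA) (A.inv_mem ha)
  have hcy : Nat.card (V ⊓ centralizer {y} : Subgroup H) = Nat.card (V ⊓ centralizer {x} : Subgroup H) := by
    have he : (V ⊓ centralizer {y} : Subgroup H) = (V ⊓ centralizer {x} : Subgroup H).map (MulAut.conj a).toMonoidHom := by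
      ext v
      rw [mem_map_equiv, MulAut.conj_symm_apply, mem_inf, mem_inf, mem_centralizer_singleton_iff,
        mem_centralizer_singleton_iff, hydef]
      constructor
      · rintro ⟨hv, hc⟩
        refine ⟨by simpa using hVn.conj_mem v hv a⁻¹, ?_⟩
        calc a⁻¹ * v * a * x = a⁻¹ * (v * (a * x * a⁻¹)) * a := by group
          _ = _ := by rw [hc]; group
      · rintro ⟨hv, hc⟩
        have hv' := hVn.conj_mem _ hv a
        simp only [mul_assoc, mul_inv_cancel_left, mul_inv_cancel, mul_one] at hv'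
        refine ⟨hv', ?_⟩
        calc v * (a * x * a⁻¹) = a * (a⁻¹ * v * a * x) * a⁻¹ := by group
          _ = _ := by rw [hc]; group
    rw [he, card_map_of_injective (MulAut.conj a).injective]
  by_contra hno
  push Not at hno
  have hsolv : Group.IsSolvable V := Group.isSolvable_of_comm fun u v => mul_comm' u v
  have hDV : D ≤ normalizer (V : Set H) := by rw [normalizer_eq_top (H := V)]; exact le_top
  -- every twist lies in a conjugate of `A` containing `x`
  have key : ∀ v : V, ∃ c d : V, (c : H) ∈ centralizer {x} ∧ (d : H) ∈ centralizer {y} ∧ c * d = v := by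
    rintro ⟨v, hv⟩
    set B := zpowers x ⊔ zpowers (v * y * v⁻¹)
    have hBtop : B ⊔ V = ⊤ := by
      refine top_le_iff.mp (htop.ge.trans (sup_le ?_ le_sup_right))
      rw [← hgen]
      refine sup_le (le_sup_left.trans le_sup_left) (zpowers_le.mpr ?_)
      have h1 : v * y * v⁻¹ ∈ B ⊔ V := mem_sup_left (mem_sup_right (mem_zpowers _))
      have h2 := (B ⊔ V).mul_mem ((B ⊔ V).mul_mem (mem_sup_right (inv_mem hv)) h1) (mem_sup_right hv)
      simpa [mul_assoc] using h2
    have hBV : B ⊓ V = ⊥ := by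
      have hn : (B ⊓ V).Normal := by
        refine ⟨fun m hm g => ?_⟩
        have hg : g ∈ B ⊔ V := hBtop ▸ mem_top g
        rw [mem_sup_of_normal_right] at hg
        obtain ⟨b, hb, u, hu, rfl⟩ := hg
        have hum : u * m * u⁻¹ = m := by
          rw [show u * m = m * u from congrArg Subtype.val (mul_comm' (⟨u, hu⟩ : V) ⟨m, hm.2⟩), mul_inv_cancel_right]
        rw [show b * u * m * (b * u)⁻¹ = b * (u * m * u⁻¹) * b⁻¹ by group, hum]
        exact ⟨B.mul_mem (B.mul_mem hb hm.1) (B.inv_mem hb), hVn.conj_mem m hm.2 b⟩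
      refine (hmin _ hn inf_le_right).resolve_right fun h => hno v hv (top_le_iff.mp ?_)
      rw [← hBtop]
      exact sup_le le_rfl (inf_eq_right.mp h)
    haveI hDVn : (D ⊔ V).Normal := by
      rw [← normalizer_eq_top_iff, eq_top_iff, ← htop]
      refine sup_le ?_ (le_sup_right.trans le_normalizer)
      exact (le_inf hDn ((le_top : A ≤ ⊤).trans (normalizer_eq_top (H := V)).ge)).trans
        (normalizer_inf_normalizer_le_normalizer_sup D V)
    set B₀ := B ⊓ (D ⊔ V)
    have hB₀V : B₀ ⊔ V = D ⊔ V := by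
      refine le_antisymm (sup_le inf_le_right le_sup_right) fun g hg => ?_
      have hg' : g ∈ B ⊔ V := hBtop ▸ mem_top g
      rw [mem_sup_of_normal_right] at hg'
      obtain ⟨b, hb, u, hu, rfl⟩ := hg'
      refine mul_mem (mem_sup_left ⟨hb, ?_⟩) (mem_sup_right hu)
      simpa using mul_mem hg (inv_mem (mem_sup_right hu) : u⁻¹ ∈ D ⊔ V)
    have hcardB : Nat.card B₀ = Nat.card D := by
      have h1 := Coprime.card_sup_mul_card_inf_of_le_normalizer (A := B₀) (N := V)
        (by rw [normalizer_eq_top (H := V)]; exact le_top)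
      rw [hB₀V, show B₀ ⊓ V = ⊥ from le_bot_iff.mp ((inf_le_inf_right V inf_le_left).trans hBV.le), card_bot,
        mul_one, Coprime.card_sup_of_coprime hDV hcop] at h1
      exact Nat.eq_of_mul_eq_mul_right Nat.card_pos h1.symm
    obtain ⟨u, hu, hconj⟩ := Coprime.exists_conj_eq_of_le_sup hDV hcop (Or.inr hsolv) inf_le_right hcardB
    -- `u⁻¹ b u` normalises `D`, so lies in `A`
    have hmem : ∀ b ∈ B, u⁻¹ * b * u ∈ A := by
      intro b hb
      have hbn : b ∈ normalizer ((MulAut.conj u • D : Subgroup H) : Set H) := by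
        rw [hconj]
        exact ((le_inf le_normalizer (by rw [normalizer_eq_top (H := D ⊔ V)]; exact le_top) :
          B ≤ normalizer (B : Set H) ⊓ normalizer ((D ⊔ V : Subgroup H) : Set H)).trans
          inf_normalizer_le_normalizer_inf) hb
      have hgD : u⁻¹ * b * u ∈ normalizer (D : Set H) := by
        rw [mem_normalizer_iff]
        intro d
        have h1 := mem_normalizer_iff.mp hbn (u * d * u⁻¹)
        simp only [mem_pointwise_smul_iff_inv_smul_mem, MulAut.smul_def, MulAut.inv_apply, MulAut.conj_symm_apply] at h1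
        simpa [mul_assoc] using h1
      have hg : u⁻¹ * b * u ∈ A ⊔ V := htop ▸ mem_top _
      rw [mem_sup_of_normal_right] at hg
      obtain ⟨b', hb', w, hw, e⟩ := hg
      have hwD : w ∈ normalizer (D : Set H) := by
        have := mul_mem (inv_mem (hDn hb')) hgD
        rwa [← e, inv_mul_cancel_left] at this
      have hw1 : w ∈ V ⊓ centralizer (D : Set H) := by
        refine ⟨hw, mem_centralizer_iff.mpr fun d hd => ?_⟩
        have h1 : ⁅w, d⁆ ∈ D ⊓ V := by
          refine ⟨?_, ?_⟩
          · rw [commutatorElement_def]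
            exact D.mul_mem ((mem_normalizer_iff.mp hwD d).mp hd) (D.inv_mem hd)
          · rw [show ⁅w, d⁆ = w * (d * w⁻¹ * d⁻¹) by simp only [commutatorElement_def]; group]
            exact V.mul_mem hw (hVn.conj_mem _ (V.inv_mem hw) d)
        rw [Coprime.inf_eq_bot_of_coprime hcop, mem_bot, commutatorElement_eq_one_iff_mul_comm] at h1
        exact h1.symm
      rw [hfix, mem_bot] at hw1
      rwa [← e, hw1, mul_one]
    -- the translation
    have hcomm : ∀ g ∈ A, ∀ w ∈ V, w * g * w⁻¹ ∈ A → w ∈ centralizer {g} := by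
      intro g hg w hw h
      have h2 : w * g * w⁻¹ * g⁻¹ ∈ A ⊓ V := ⟨A.mul_mem h (A.inv_mem hg), by
        rw [show w * g * w⁻¹ * g⁻¹ = w * (g * w⁻¹ * g⁻¹) by group]
        exact V.mul_mem hw (hVn.conj_mem _ (V.inv_mem hw) g)⟩
      rw [hAi, mem_bot, mul_inv_eq_one, mul_inv_eq_iff_eq_mul] at h2
      exact mem_centralizer_singleton_iff.mpr h2
    refine ⟨⟨u, hu⟩, ⟨u⁻¹ * v, V.mul_mem (V.inv_mem hu) hv⟩, ?_, ?_, Subtype.ext (mul_inv_cancel_left u v)⟩
    · have h := hcomm x hxA u⁻¹ (inv_mem hu) (by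
        simpa [mul_assoc] using hmem x (mem_sup_left (mem_zpowers x)))
      simpa using inv_mem h
    · refine hcomm y hy _ (V.mul_mem (V.inv_mem hu) hv) ?_
      simpa [mul_assoc] using hmem (v * y * v⁻¹) (mem_sup_right (mem_zpowers _))
  let f : (V ⊓ centralizer {x} : Subgroup H) × (V ⊓ centralizer {y} : Subgroup H) → V :=
    fun cd => ⟨cd.1, cd.1.2.1⟩ * ⟨cd.2, cd.2.2.1⟩
  have hsurj : Function.Surjective f := fun v => by
    obtain ⟨c, d, hc, hd, e⟩ := key v
    exact ⟨(⟨c, c.2, hc⟩, ⟨d, d.2, hd⟩), e⟩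
  have := Nat.card_le_card_of_surjective f hsurj
  rw [Nat.card_prod, hcy] at this
  omega

end Cfsg.Agent.Lib.FixHalf
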